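import Groth.Agent.Vanish.K27.Main0
import Groth.Agent.Vanish.K27.Strata
import Groth.Agent.Vanish.K911.Ncd
import Groth.Agent.Fdesc.LocGenTensor

/-!
# Restriction of a normal crossing divisor to one of its components

`isNCD_restrict`: if `(D, E)` is a normal crossing divisor relative to `f`, then the restrictions of the `D_i` to `E` form a
normal crossing divisor relative to `E ⟶ S`.
-/

set_option autoImplicit false

universe u

open CategoryTheory CategoryTheory.Limits AlgebraicGeometry Opposite TopologicalSpace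
open Groth.Agent.Fdesc.LocGen K27.Crit K27.ChartBert K922.Coord K922.Chart K27.Main0
open Groth.Agent.Sga67.Sec (resO)

namespace K661.NcdRes

/-- Étale coordinates have dual derivations on the coordinate hyperplane `v j₀ = 0`. -/
theorem dualAt_quotient {A B C : Type u} [CommRing A] [CommRing B] [CommRing C] (φ : A →+* B) (ψ : B →+* C)
    (K : Type u) [Field K] [Algebra C K] [Algebra A K] (hK : ∀ a : A, algebraMap A K a = algebraMap C K (ψ (φ a)))
    {σ : Type} (v : σ → B) (h : (MvPolynomial.eval₂Hom φ v).Etale)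
    (hψ : Function.Surjective ψ) (j₀ : σ) (hker : RingHom.ker ψ = Ideal.span {v j₀}) {ι : Type*} (e : ι → σ)
    (he : Function.Injective e) (hj : ∀ i, e i ≠ j₀) :
    letI := (ψ.comp φ).toAlgebra
    K27.Dual.DualAt A K (fun i => ψ (v (e i))) := by
  let _ : Algebra A B := φ.toAlgebra
  let _ : Algebra A C := (ψ.comp φ).toAlgebra
  let _ : Algebra B K := ((algebraMap C K).comp ψ).toAlgebra
  have : IsScalarTower A B K := IsScalarTower.of_algebraMap_eq fun a => hK a
  have hd := dualAt_of_etale A B K v h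
  intro i
  obtain ⟨δ, h1, h2⟩ := hd (e i)
  have h0 : ∀ b ∈ RingHom.ker ψ, δ b = 0 := by
    intro b hb
    rw [hker, Ideal.mem_span_singleton] at hb
    obtain ⟨c, rfl⟩ := hb
    rw [δ.leibniz, h2 j₀ (hj i).symm, smul_zero, add_zero]
    have h3 : ψ (v j₀) = 0 := by
      rw [← RingHom.mem_ker, hker]
      exact Ideal.mem_span_singleton_self _
    rw [Algebra.smul_def]
    change algebraMap C K (ψ (v j₀)) * _ = 0
    rw [h3, map_zero, zero_mul]
  have h0' : ∀ b b' : B, ψ b = ψ b' → δ b = δ b' := by
    intro b b' hbb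
    rw [← sub_eq_zero, ← map_sub]
    apply h0
    rw [RingHom.mem_ker, map_sub, hbb, sub_self]
  choose s hs using hψ
  have hval : ∀ b, δ (s (ψ b)) = δ b := fun b => h0' _ _ (hs _)
  refine ⟨Derivation.mk' { toFun := fun c => δ (s c), map_add' := ?_, map_smul' := ?_ } ?_, ?_, ?_⟩
  · intro c c'
    rw [← map_add]
    apply h0'
    rw [hs, map_add, hs, hs]
  · intro a c
    rw [RingHom.id_apply, ← δ.map_smul]
    apply h0'
    rw [hs, Algebra.smul_def, Algebra.smul_def, map_mul, hs]
    rfl
  · intro c c'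
    change δ (s (c * c')) = c • δ (s c') + c' • δ (s c)
    have h4 : δ (s (c * c')) = δ (s c * s c') := by
      apply h0'
      rw [hs, map_mul, hs, hs]
    rw [h4, δ.leibniz]
    have h5 : ∀ (b : B) (x : K), b • x = ψ b • x := fun b x => by
      rw [Algebra.smul_def, Algebra.smul_def]
      rfl
    rw [h5, h5, hs, hs]
  · change δ (s (ψ (v (e i)))) = 1
    rw [hval, h1]
  · intro j hji
    change δ (s (ψ (v (e j)))) = 0
    rw [hval, h2]
    exact fun h => hji (he h)

variable {X S : Scheme.{u}}

/-- The restriction of a normal crossing divisor to a further component. -/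
theorem isNCD_restrict (f : X ⟶ S) [Smooth f] {r : ℕ} (D : Fin r → X.IdealSheafData) (E : X.IdealSheafData)
    (hD : LogNCD.IsNCD (Fin.snoc (α := fun _ => X.IdealSheafData) D E) f) :
    LogNCD.IsNCD (fun i => (D i).comap E.subschemeι) (E.subschemeι ≫ f) := by
  classical
  set D' : Fin (r + 1) → X.IdealSheafData := Fin.snoc (α := fun _ => X.IdealSheafData) D E with hD'
  have hsm : Smooth (E.subschemeι ≫ f) := by
    have := K27.Strata.smooth_component f hD (Fin.last r)
    rw [hD', Fin.snoc_last] at this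
    exact this
  apply isNCD_of_forall
  intro y hT
  obtain ⟨W, V, e, n, c, -, hxW, -, het⟩ :=
    exists_chart' f hD (L := Coh.structureModule X) isInvertible_structureModule (E.subschemeι y)
  have hEy : E.subschemeι y ∈ E.support := by
    have := Set.mem_range_self (f := E.subschemeι) y
    rwa [E.range_subschemeι] at this
  -- the coordinate of `E`
  have hid : ∀ i, (D' i).ideal W = Ideal.span {c.g i} := fun i => by
    rw [c.ideal i W le_rfl, Groth.Agent.Sga67.Sec.resO_self]
  have hmem : ∀ i : Fin (r + 1), E.subschemeι y ∈ (D' i).support → ∃ l, c.e i = some l := by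
    intro i hi
    rcases h : c.e i with _ | l
    · exfalso
      have h1 := (mem_support_iff_span (D' i) W (c.g i) (hid i) _ hxW).mp hi
      rw [c.g_none i h] at h1
      exact h1 (by rw [Scheme.basicOpen_of_isUnit _ isUnit_one]; exact hxW)
    · exact ⟨l, rfl⟩
  have hlast : D' (Fin.last r) = E := by rw [hD', Fin.snoc_last]
  obtain ⟨j₀, hj₀⟩ := hmem (Fin.last r) (by rw [hlast]; exact hEy)
  have hcast : ∀ i : Fin r, D' (Fin.castSucc i) = D i := fun i => by rw [hD', Fin.snoc_castSucc]
  let T := LogNCD.Through (fun i => (D i).comap E.subschemeι) y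
  have hTm : ∀ i : T, ∃ l, c.e (Fin.castSucc i.1) = some l := fun i => by
    apply hmem
    rw [hcast]
    exact (K911.Ncd.mem_support_comap (D i.1) E.subschemeι y).mp i.2
  choose l hl using hTm
  have hlinj : Function.Injective l := by
    intro i i' hii
    have h1 := c.inj _ _ _ (hl i) (hii ▸ hl i')
    exact Subtype.ext (Fin.castSucc_injective r h1)
  have hlne : ∀ i, l i ≠ j₀ := by
    intro i hi
    have h1 := c.inj _ _ _ (hl i) (hi ▸ hj₀)
    exact (Fin.castSucc_lt_last i.1).ne h1
  let W' : E.subscheme.affineOpens := ⟨E.subschemeι ⁻¹ᵁ W.1, W.2.preimage E.subschemeι⟩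
  have hW' : W'.1 ≤ E.subschemeι ⁻¹ᵁ W.1 := le_rfl
  have e' : W'.1 ≤ (E.subschemeι ≫ f) ⁻¹ᵁ V.1 := fun z hz => e hz
  let ψ : Γ(X, W.1) →+* Γ(E.subscheme, W'.1) := (E.subschemeι.appLE W.1 W'.1 hW').hom
  have hψ : ψ = (E.subschemeι.app W.1).hom := by
    change (E.subschemeι.appLE W.1 W'.1 hW').hom = _
    rw [Scheme.Hom.app_eq_appLE]
  refine ⟨W', V, e', hxW, fun i => ψ (c.g (Fin.castSucc i.1)), ?_, ?_⟩
  · intro i
    change ((D i.1).comap E.subschemeι).ideal W' = _
    rw [Groth.Agent.Divis.IdealComap.ideal_comap (D i.1) E.subschemeι W W' hW']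
    have h1 := hid (Fin.castSucc i.1)
    rw [hcast] at h1
    rw [h1, Ideal.map_span, Set.image_singleton]
  · have hφ : ((E.subschemeι ≫ f).appLE V.1 W'.1 e').hom = ψ.comp (f.appLE V.1 W.1 e).hom := by
      have h1 := Scheme.Hom.appLE_comp_appLE E.subschemeι f V.1 W.1 W'.1 e hW'
      exact congrArg CommRingCat.Hom.hom h1.symm
    have hgv : ∀ i : T, c.g (Fin.castSucc i.1) = c.v (l i) := fun i => c.g_some _ _ (hl i)
    have hsurj : Function.Surjective ψ := by
      rw [hψ]
      exact E.subschemeι.app_surjective W.1 W.2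
    have hker : RingHom.ker ψ = Ideal.span {c.v j₀} := by
      have h1 := hid (Fin.last r)
      rw [hlast, c.g_some _ _ hj₀] at h1
      rw [← h1, hψ]
      exact E.ker_subschemeι_app W
    unfold K27.Crit.DualFor
    rw [hφ]
    simp only [hgv]
    let _ : Algebra Γ(S, V.1) Γ(E.subscheme, W'.1) := (ψ.comp (f.appLE V.1 W.1 e).hom).toAlgebra
    exact dualAt_quotient (f.appLE V.1 W.1 e).hom ψ
      ((W'.2.primeIdealOf ⟨y, hxW⟩).asIdeal).ResidueField
      (fun a => IsScalarTower.algebraMap_apply Γ(S, V.1) Γ(E.subscheme, W'.1) _ a) c.v het hsurj j₀ hker l hlinj hlne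

end K661.NcdRes
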