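import Mathlib.Algebra.Homology.DerivedCategory.ExactFunctor
import Mathlib.Algebra.Homology.DerivedCategory.HomologySequence
import Mathlib.Algebra.Homology.SingleHomology
import Mathlib.CategoryTheory.Localization.Predicate

/-!
# An exact endofunctor `F` with `η : 𝟭 ⟶ F` on the derived category, on shifted objects of the abelian category
-/

set_option autoImplicit false

universe w v u

open CategoryTheory Limits DerivedCategory

namespace K661.DTw

variable {A : Type u} [Category.{v} A] [Abelian A] [HasDerivedCategory.{w} A]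
  {F : A ⥤ A} [F.Additive] [PreservesFiniteLimits F] [PreservesFiniteColimits F] (η : 𝟭 A ⟶ F)

/-- The map of complexes `K ⟶ F K`. -/
noncomputable def etaCx (K : CochainComplex A ℤ) : K ⟶ (F.mapHomologicalComplex (ComplexShape.up ℤ)).obj K where
  f i := η.app (K.X i)
  comm' i j _ := (η.naturality (K.d i j)).symm

theorem etaCx_naturality {K L : CochainComplex A ℤ} (f : K ⟶ L) :
    f ≫ etaCx η L = etaCx η K ≫ (F.mapHomologicalComplex (ComplexShape.up ℤ)).map f := by
  ext i
  exact η.naturality (f.f i)

/-- The natural transformation `𝟭 ⟶ F` on derived categories. -/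
noncomputable def sig : 𝟭 (DerivedCategory A) ⟶ F.mapDerivedCategory :=
  Localization.liftNatTrans Q (HomologicalComplex.quasiIso A (ComplexShape.up ℤ)) Q
    (F.mapHomologicalComplex _ ⋙ Q) (𝟭 _) F.mapDerivedCategory
    { app K := Q.map (etaCx η K)
      naturality K L f := by
        rw [← Q.map_comp, etaCx_naturality, Q.map_comp]
        rfl }

theorem sig_app (K : CochainComplex A ℤ) :
    (sig η).app (Q.obj K) = Q.map (etaCx η K) ≫ F.mapDerivedCategoryFactors.inv.app K := by
  have := Localization.liftNatTrans_app Q (HomologicalComplex.quasiIso A (ComplexShape.up ℤ)) Q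
    (F.mapHomologicalComplex _ ⋙ Q) (𝟭 _) F.mapDerivedCategory
    { app K := Q.map (etaCx η K)
      naturality K L f := by
        rw [← Q.map_comp, etaCx_naturality, Q.map_comp]
        rfl } K
  refine this.trans ?_
  simp
  rfl

/-- `M[n]` as a complex. -/
noncomputable def e (n : ℤ) (M : A) : ((singleFunctor A 0).obj M)⟦n⟧ ≅
    Q.obj ((CochainComplex.singleFunctor A (-n)).obj M) :=
  ((singleFunctors A).shiftIso n (-n) 0 (by omega)).app M

omit [F.Additive] [PreservesFiniteLimits F] [PreservesFiniteColimits F] in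
theorem e_naturality (n : ℤ) {M N : A} (φ : M ⟶ N) :
    ((singleFunctor A 0).map φ)⟦n⟧' ≫ (e n N).hom =
      (e n M).hom ≫ Q.map ((CochainComplex.singleFunctor A (-n)).map φ) :=
  ((singleFunctors A).shiftIso n (-n) 0 (by omega)).hom.naturality φ

/-- `F (single M) ≅ single (F M)`. -/
noncomputable def sg (F : A ⥤ A) [F.Additive] (n : ℤ) (M : A) :
    (F.mapHomologicalComplex (ComplexShape.up ℤ)).obj ((CochainComplex.singleFunctor A n).obj M) ≅
      (CochainComplex.singleFunctor A n).obj (F.obj M) :=
  (HomologicalComplex.singleMapHomologicalComplex F (ComplexShape.up ℤ) n).app M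

theorem sg_naturality (n : ℤ) {M N : A} (φ : M ⟶ N) :
    (F.mapHomologicalComplex (ComplexShape.up ℤ)).map ((CochainComplex.singleFunctor A n).map φ) ≫ (sg F n N).hom =
      (sg F n M).hom ≫ (CochainComplex.singleFunctor A n).map (F.map φ) :=
  (HomologicalComplex.singleMapHomologicalComplex F (ComplexShape.up ℤ) n).hom.naturality φ

theorem etaCx_sg (n : ℤ) (M : A) : etaCx η ((CochainComplex.singleFunctor A n).obj M) ≫ (sg F n M).hom =
    (CochainComplex.singleFunctor A n).map (η.app M) := by
  refine HomologicalComplex.from_single_hom_ext ?_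
  have h1 : (sg F n M).hom.f n = F.map (HomologicalComplex.singleObjXSelf (ComplexShape.up ℤ) n M).hom ≫
      (HomologicalComplex.singleObjXSelf (ComplexShape.up ℤ) n (F.obj M)).inv :=
    HomologicalComplex.singleMapHomologicalComplex_hom_app_self F (ComplexShape.up ℤ) n M
  have h2 : ((CochainComplex.singleFunctor A n).map (η.app M)).f n =
      (HomologicalComplex.singleObjXSelf (ComplexShape.up ℤ) n M).hom ≫ η.app M ≫
        (HomologicalComplex.singleObjXSelf (ComplexShape.up ℤ) n (F.obj M)).inv :=
    HomologicalComplex.single_map_f_self (ComplexShape.up ℤ) n (η.app M)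
  rw [HomologicalComplex.comp_f, h1, h2]
  have h3 := η.naturality (HomologicalComplex.singleObjXSelf (ComplexShape.up ℤ) n M).hom
  have h4 : (etaCx η ((CochainComplex.singleFunctor A n).obj M)).f n =
    η.app (((HomologicalComplex.single A (ComplexShape.up ℤ) n).obj M).X n) := rfl
  rw [h4]
  exact (Category.assoc _ _ _).symm.trans ((congrArg (· ≫ (HomologicalComplex.singleObjXSelf
    (ComplexShape.up ℤ) n (F.obj M)).inv) h3.symm).trans (Category.assoc _ _ _))

/-- `F (M[n]) ≅ (F M)[n]`. -/
noncomputable def θ (F : A ⥤ A) [F.Additive] [PreservesFiniteLimits F] [PreservesFiniteColimits F] (n : ℤ) (M : A) :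
    F.mapDerivedCategory.obj (((singleFunctor A 0).obj M)⟦n⟧) ≅ ((singleFunctor A 0).obj (F.obj M))⟦n⟧ :=
  F.mapDerivedCategory.mapIso (e n M) ≪≫ F.mapDerivedCategoryFactors.app _ ≪≫ Q.mapIso (sg F (-n) M) ≪≫
    (e n (F.obj M)).symm

theorem θ_naturality (n : ℤ) {M N : A} (φ : M ⟶ N) :
    F.mapDerivedCategory.map (((singleFunctor A 0).map φ)⟦n⟧') ≫ (θ F n N).hom =
      (θ F n M).hom ≫ ((singleFunctor A 0).map (F.map φ))⟦n⟧' := by
  have h1 := e_naturality n φ
  have h2 := e_naturality n (F.map φ)
  have h3 := F.mapDerivedCategoryFactors_hom_naturality ((CochainComplex.singleFunctor A (-n)).map φ)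
  have h4 := congrArg Q.map (sg_naturality (F := F) (-n) φ)
  rw [Q.map_comp, Q.map_comp] at h4
  simp only [θ, Iso.trans_hom, Functor.mapIso_hom, Iso.app_hom, Iso.symm_hom, Category.assoc]
  rw [← Category.assoc, ← F.mapDerivedCategory.map_comp, h1, F.mapDerivedCategory.map_comp, Category.assoc]
  congr 1
  rw [← Category.assoc, h3, Category.assoc]
  congr 1
  rw [← Category.assoc, h4, Category.assoc]
  congr 1
  rw [Iso.comp_inv_eq, Category.assoc, h2, Iso.inv_hom_id_assoc]

theorem sig_θ (n : ℤ) (M : A) : (sig η).app (((singleFunctor A 0).obj M)⟦n⟧) ≫ (θ F n M).hom =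
    ((singleFunctor A 0).map (η.app M))⟦n⟧' := by
  have h1 := (sig η).naturality (e n M).hom
  have h2 := sig_app η ((CochainComplex.singleFunctor A (-n)).obj M)
  have h3 : (sig η).app (((singleFunctor A 0).obj M)⟦n⟧) ≫ F.mapDerivedCategory.map (e n M).hom =
      (e n M).hom ≫ (sig η).app (Q.obj ((CochainComplex.singleFunctor A (-n)).obj M)) := h1.symm
  have h4 := congrArg Q.map (etaCx_sg η (-n) M)
  rw [Q.map_comp] at h4
  simp only [θ, Iso.trans_hom, Functor.mapIso_hom, Iso.app_hom, Iso.symm_hom]
  rw [← Category.assoc, h3, h2, Category.assoc, Category.assoc]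
  rw [Iso.inv_hom_id_app_assoc, ← Category.assoc (Q.map _), h4, ← Category.assoc, ← e_naturality, Category.assoc,
    Iso.hom_inv_id, Category.comp_id]

end K661.DTw
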