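import Groth.Agent.Vanish.K910.DescTrace
import Groth.Agent.Vanish.K661.DTw

/-!
# Twisted descent of surjectivity in cohomology along `π : X₁ ⟶ X`

`X`, `X₁` with `π : X₁ ⟶ X`; `W` a dualizing module of `X` (in degree `-n`, with linear form `τ`); `j : π^* W ⟶ W₁` such that
`H^n(X, W) ⟶ H^n(X₁, W₁)` is injective.  If `j` factors through `π^* W ⟶ F (π^* W)` for an exact functor `F` with
`η : 𝟭 ⟶ F` (twist by an effective divisor), then surjectivity of `H^b(F π^* φ)` implies surjectivity of `H^b(φ)`.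
-/

set_option autoImplicit false

universe u

open CategoryTheory CategoryTheory.Limits AlgebraicGeometry

attribute [local instance] HasDerivedCategory.standard

namespace K661.DescTw

open Groth.Agent Groth.Agent.CurvesC Groth.Agent.CurvesC.RepX Groth.Agent.CurvesC.DualLin
  Groth.Agent.Sga67.SelfIntT K910.DescFormal K910.DescTrace

attribute [local instance] LinMod.linearModules

section Abstract

variable (k : Type u) [Field k] {X : Scheme.{u}} [X.Over (Spec (CommRingCat.of k))]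
  {W : DCoh.D X} (τ : (P X ⟶ W) →ₗ[k] k)
  (hτ : ∀ K : DCoh.D X, DCoh.IsQCohD K → Function.Bijective (pairing k X τ K))
  {D : Type*} [Category D] [Preadditive D] (L L₂ : DCoh.D X ⥤ D) [L₂.PreservesZeroMorphisms]
  (σ : L ⟶ L₂) {W₁ : D} (j₂ : L₂.obj W ⟶ W₁)
  (hL : ∀ t : P X ⟶ W, L.map t ≫ σ.app W ≫ j₂ = 0 → t = 0)

include hτ hL in
theorem exists_of_forall {K K' : DCoh.D X} (hK : DCoh.IsQCohD K) (hK' : DCoh.IsQCohD K') (φ : K ⟶ K')
    (hs : ∀ t : L.obj (P X) ⟶ L₂.obj K', ∃ t' : L.obj (P X) ⟶ L₂.obj K, t' ≫ L₂.map φ = t)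
    (t : P X ⟶ K') : ∃ t' : P X ⟶ K, t' ≫ φ = t := by
  by_contra hne
  let R : Submodule k (P X ⟶ K') := LinearMap.range (Linear.rightComp k (P X) φ)
  have ht : t ∉ R := fun ⟨t', ht'⟩ => hne ⟨t', ht'⟩
  obtain ⟨lam, h1, h2⟩ := Submodule.exists_dual_map_eq_bot_of_notMem ht inferInstance
  have h2' : ∀ t' : P X ⟶ K, lam (t' ≫ φ) = 0 := fun t' => by
    have : lam (t' ≫ φ) ∈ R.map lam := ⟨_, ⟨t', rfl⟩, rfl⟩
    rw [h2] at this
    exact this
  obtain ⟨s, hs'⟩ := (hτ K' hK').2 lam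
  have h3 : ∀ t : P X ⟶ K', lam t = τ (t ≫ s) := fun t => by rw [← hs']; rfl
  have h4 : φ ≫ s = 0 := by
    apply (hτ K hK).1
    ext t'
    rw [map_zero]
    change τ (t' ≫ φ ≫ s) = 0
    rw [← Category.assoc, ← h3, h2']
  obtain ⟨t', ht'⟩ := hs (L.map t ≫ σ.app K')
  have h5 : t ≫ s = 0 := hL _ (by
    have e1 : L.map (t ≫ s) ≫ σ.app W ≫ j₂ = (L.map t ≫ σ.app K') ≫ L₂.map s ≫ j₂ := by
      rw [L.map_comp, Category.assoc, Category.assoc, ← Category.assoc (L.map s), σ.naturality, Category.assoc]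
    rw [e1, ← ht', Category.assoc, ← Category.assoc (L₂.map φ), ← L₂.map_comp, h4, L₂.map_zero, zero_comp, comp_zero])
  rw [h3, h5, map_zero] at h1
  exact h1 rfl

end Abstract

section Main

variable (k : Type u) [Field k] {X X₁ : Scheme.{u}} [X.Over (Spec (CommRingCat.of k))] (π : X₁ ⟶ X)
  [DCoh.HasLpull π] [(DCoh.Lpull π).CommShift ℤ] [(DCoh.Lpull π).IsTriangulated]
  {F : X₁.Modules ⥤ X₁.Modules} [F.Additive] [PreservesFiniteLimits F] [PreservesFiniteColimits F] (η : 𝟭 _ ⟶ F)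

/-- **Twisted descent.** -/
theorem main {W : X.Modules} {W₁ : X₁.Modules} (n : ℤ) (τ : (P X ⟶ (DCoh.inD X W)⟦n⟧) →ₗ[k] k)
    (hτ : ∀ K : DCoh.D X, DCoh.IsQCohD K → Function.Bijective (pairing k X τ K))
    (j : (Scheme.Modules.pullback π).obj W ⟶ W₁)
    (hinj : ∀ t : P X ⟶ (DCoh.inD X W)⟦n⟧, (DCoh.Lpull π).map t ≫ pullN π W n ≫
      ((DerivedCategory.singleFunctor X₁.Modules 0).map j)⟦n⟧' = 0 → t = 0)
    (j₂ : F.obj ((Scheme.Modules.pullback π).obj W) ⟶ W₁) (hj : η.app _ ≫ j₂ = j)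
    {M N : X.Modules} (φ : M ⟶ N) (b : ℕ) (hM : PicF.IsInvertible M) (hN : PicF.IsInvertible N)
    (hs : Function.Surjective (Sheaf.H.map ((SheafOfModules.toSheaf X₁.ringCatSheaf).map
        (F.map ((Scheme.Modules.pullback π).map φ))) b)) :
    Function.Surjective (Sheaf.H.map ((SheafOfModules.toSheaf X.ringCatSheaf).map φ) b) := by
  letI : X₁.Over (Spec (CommRingCat.of k)) := ⟨π ≫ (X ↘ Spec (CommRingCat.of k))⟩
  have hz : (DCoh.Lpull π).PreservesZeroMorphisms := inferInstance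
  have hq : ∀ {M : X.Modules}, PicF.IsInvertible M → ∀ b : ℕ, DCoh.IsQCohD ((DCoh.inD X M)⟦(b : ℤ)⟧) :=
    fun hM b => Groth.Agent.PerfA.QCohD.isQCohD_shift (Groth.Agent.PerfA.QCohD.isQCohD_inD _
      (Groth.Agent.PerfB.TensInv.isQCoh_of_isInvertible hM)) _
  have hf : ∀ {M : X.Modules}, PicF.IsInvertible M → FlatMod.IsFlat M := fun hM =>
    Groth.Agent.PerfB.TensInv.isFlat_of_isInvertible hM
  let L₂ : DCoh.D X ⥤ DCoh.D X₁ := DCoh.Lpull π ⋙ F.mapDerivedCategory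
  have hz₂ : F.mapDerivedCategory.Additive := inferInstance
  have hz₃ : (DCoh.Lpull π).Additive := inferInstance
  have hz₄ : L₂.Additive := inferInstance
  have hz₅ : L₂.PreservesZeroMorphisms := inferInstance
  let σ : DCoh.Lpull π ⟶ L₂ := Functor.whiskerLeft (DCoh.Lpull π) (DTw.sig η)
  -- the twisted iso at `N[b]`
  let tw : ∀ {N : X.Modules}, PicF.IsInvertible N → (L₂.obj ((DCoh.inD X N)⟦(b : ℤ)⟧) ≅
      (DCoh.inD X₁ (F.obj ((Scheme.Modules.pullback π).obj N)))⟦(b : ℤ)⟧) := fun {N} hN =>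
    F.mapDerivedCategory.mapIso (pullIso π (hf hN) b) ≪≫ DTw.θ F b _
  have htw : ∀ {M N : X.Modules} (hM : PicF.IsInvertible M) (hN : PicF.IsInvertible N) (φ : M ⟶ N),
      L₂.map (((DerivedCategory.singleFunctor X.Modules 0).map φ)⟦(b : ℤ)⟧') ≫ (tw hN).hom = (tw hM).hom ≫
        ((DerivedCategory.singleFunctor X₁.Modules 0).map (F.map ((Scheme.Modules.pullback π).map φ)))⟦(b : ℤ)⟧' := by
    intro M N hM hN φ
    have h1 := congrArg F.mapDerivedCategory.map (pullIso_naturality π (hf hM) (hf hN) φ b)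
    rw [Functor.map_comp, Functor.map_comp] at h1
    have h2 := DTw.θ_naturality (F := F) b ((Scheme.Modules.pullback π).map φ)
    change F.mapDerivedCategory.map ((DCoh.Lpull π).map _) ≫ F.mapDerivedCategory.map (pullIso π (hf hN) b).hom ≫
      (DTw.θ F b _).hom = (F.mapDerivedCategory.map (pullIso π (hf hM) b).hom ≫ (DTw.θ F b _).hom) ≫ _
    rw [← Category.assoc, h1, Category.assoc]
    erw [h2]
    rw [Category.assoc]
  let J₂ : L₂.obj ((DCoh.inD X W)⟦n⟧) ⟶ (DCoh.inD X₁ W₁)⟦n⟧ :=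
    F.mapDerivedCategory.map (pullN π W n) ≫ (DTw.θ F n _).hom ≫
      ((DerivedCategory.singleFunctor X₁.Modules 0).map j₂)⟦n⟧'
  have hJ₂ : σ.app ((DCoh.inD X W)⟦n⟧) ≫ J₂ = pullN π W n ≫
      ((DerivedCategory.singleFunctor X₁.Modules 0).map j)⟦n⟧' := by
    have h1 : (DTw.sig η).app _ ≫ F.mapDerivedCategory.map (pullN π W n) =
      pullN π W n ≫ (DTw.sig η).app _ := ((DTw.sig η).naturality (pullN π W n)).symm
    have h2 := DTw.sig_θ η n ((Scheme.Modules.pullback π).obj W)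
    change (DTw.sig η).app _ ≫ F.mapDerivedCategory.map (pullN π W n) ≫ (DTw.θ F n _).hom ≫ _ = _
    rw [← Category.assoc, h1, Category.assoc]
    congr 1
    rw [← Category.assoc]
    erw [h2]
    rw [← Functor.map_comp, ← Functor.map_comp, hj]
  intro y
  have h1 : ∀ t : (DCoh.Lpull π).obj (P X) ⟶ L₂.obj ((DCoh.inD X N)⟦(b : ℤ)⟧),
      ∃ t' : (DCoh.Lpull π).obj (P X) ⟶ L₂.obj ((DCoh.inD X M)⟦(b : ℤ)⟧),
        t' ≫ L₂.map (((DerivedCategory.singleFunctor X.Modules 0).map φ)⟦(b : ℤ)⟧') = t := by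
    intro t
    obtain ⟨x, hx⟩ := hs (HomHV.homHV _ b ((pullP π).hom ≫ t ≫ (tw hN).hom))
    obtain ⟨u, rfl⟩ := (HomHV.homHV (F.obj ((Scheme.Modules.pullback π).obj M)) b).surjective x
    have h2 := HomHV.homHV_map k (F.map ((Scheme.Modules.pullback π).map φ)) b u
    have h3 := (HomHV.homHV (F.obj ((Scheme.Modules.pullback π).obj N)) b).injective (h2.trans hx)
    refine ⟨(pullP π).inv ≫ u ≫ (tw hM).inv, ?_⟩
    rw [← cancel_mono (tw hN).hom, Category.assoc, htw hM hN]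
    simp only [Category.assoc, Iso.inv_hom_id_assoc]
    rw [h3, Iso.inv_hom_id_assoc]
  obtain ⟨v, rfl⟩ := (HomHV.homHV N b).surjective y
  obtain ⟨t', ht'⟩ := exists_of_forall k τ hτ (DCoh.Lpull π) L₂ σ J₂ (fun t ht => hinj t (by
    rw [hJ₂] at ht
    exact ht)) (hq hM b) (hq hN b) _ h1 v
  refine ⟨HomHV.homHV M b t', ?_⟩
  have h2 := HomHV.homHV_map k φ b t'
  rw [ht'] at h2
  exact h2.symm

end Main

end K661.DescTw
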