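import Groth.Agent.Vanish.K661.TwSurj

/-!
# Multiplication by the canonical section of the inverse of an ideal

`T` an inverse of the effective Cartier ideal `I`: there is a section `s` of `T` such that `W ⊗ I ⟶ (W ⊗ I) ⊗ T` (product with
`s`) followed by `(W ⊗ I) ⊗ T ≅ W` is the inclusion `W ⊗ I ⟶ W`.
-/

set_option autoImplicit false
universe u

open CategoryTheory CategoryTheory.Limits AlgebraicGeometry Opposite TopologicalSpace

namespace K661.TwMul

open Groth.Agent Groth.Agent.CohqB.SerTw Groth.Agent.Fdesc.LocGen Groth.Agent.Ega2 K661.TwSurj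

variable {X : Scheme.{u}} {T : X.Modules} {I : X.IdealSheafData}

theorem idealSect_smul (U : X.Opens) (c : Γ(X, U)) (i : Γ(ClSub.idealMod I, U)) :
    OmegaSh.idealSect I U (c • i) = c * OmegaSh.idealSect I U i :=
  Groth.Agent.Dix.IdealModCartier.val_smul I c i

theorem incl_app (W : X.Modules) {U : X.Opens} (w : Γ(W, U)) (i : Γ(ClSub.idealMod I, U)) :
    (LogNCD.inclTwist W I).app U (tmul w i) = OmegaSh.idealSect I U i • w :=
  K913.TauAff.inclTwist_tmul W I U w i

variable (ε : CohB1.tensorMod T (ClSub.idealMod I) ≅ Coh.structureModule X)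

/-- The canonical section of `T`. -/
noncomputable def can : Γ(T, ⊤) := sec (ε.inv ≫ LogNCD.inclTwist T I) ⊤

theorem res_can (U : X.Opens) : res T (le_top : U ≤ ⊤) (can ε) = sec (ε.inv ≫ LogNCD.inclTwist T I) U :=
  res_sec _ _

/-- `ε(t ⊗ i) s = i t`. -/
theorem smul_can {U : X.Opens} (t : Γ(T, U)) (i : Γ(ClSub.idealMod I, U)) :
    (ofFun.symm (ε.hom.app U (tmul t i)) : Γ(X, U)) • res T (le_top : U ≤ ⊤) (can ε) =
      OmegaSh.idealSect I U i • t := by
  rw [res_can, ← app_ofFun, AddEquiv.apply_symm_apply]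
  have h1 : (ε.inv ≫ LogNCD.inclTwist T I).app U (ε.hom.app U (tmul t i)) =
      (ε.hom ≫ ε.inv ≫ LogNCD.inclTwist T I).app U (tmul t i) := rfl
  rw [h1, Iso.hom_inv_id_assoc, incl_app]

theorem eval_eq (hT : PicF.IsInvertible T) (hI : PicF.IsInvertible (ClSub.idealMod I)) {U : X.Opens}
    (i : Γ(ClSub.idealMod I, U)) :
    (ofFun.symm (ε.hom.app U (tmul (res T (le_top : U ≤ ⊤) (can ε)) i)) : Γ(X, U)) =
      OmegaSh.idealSect I U i := by
  apply (ofFun (X := X) (U := U)).injective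
  rw [AddEquiv.apply_symm_apply]
  refine res_ext_of_forall fun x hx => ?_
  obtain ⟨V₁, hV₁, t, hxV₁, ht⟩ := exists_gen_nhd hT hx
  obtain ⟨V, hV, i₀, hxV, hi₀⟩ := exists_gen_nhd hI hxV₁
  refine ⟨V, hV.trans hV₁, hxV, ?_⟩
  have ht' := ht.res hV
  set t' := res T hV t
  -- the unit
  have hg : IsGen (ε.hom.app V (tmul t' i₀)) := (ht'.tmul hi₀).app ε.hom
  set u : Γ(X, V) := ofFun.symm (ε.hom.app V (tmul t' i₀)) with hu
  have hu' : ε.hom.app V (tmul t' i₀) = u • one V := by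
    rw [← ofFun_eq_smul, hu, AddEquiv.apply_symm_apply]
  have huu : IsUnit u := by
    rw [hu'] at hg
    exact (isGen_one V).isUnit_of_smul hg
  obtain ⟨c, hc⟩ := hi₀.exists_eq (res (ClSub.idealMod I) (hV.trans hV₁) i)
  have h1 := smul_can ε t' i₀
  rw [← hu] at h1
  have h2 : res (Coh.structureModule X) (hV.trans hV₁)
      (ε.hom.app U (tmul (res T (le_top : U ≤ ⊤) (can ε)) i)) =
      ε.hom.app V (tmul (res T (le_top : V ≤ ⊤) (can ε)) (c • i₀)) := by
    rw [← app_res, res_tmul, res_res, hc]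
  have h3 : res (Coh.structureModule X) (hV.trans hV₁) (ofFun (OmegaSh.idealSect I U i)) =
      ofFun (OmegaSh.idealSect I V (c • i₀)) := by
    rw [← hc]
    exact (app_res (ClSub.idealModι I) (hV.trans hV₁) i).symm
  refine h2.trans (Eq.trans ?_ h3.symm)
  have h4 : u • ε.hom.app V (tmul (res T (le_top : V ≤ ⊤) (can ε)) (c • i₀)) =
      u • ofFun (OmegaSh.idealSect I V (c • i₀)) := by
    rw [← Scheme.Modules.Hom.app_smul, ← smul_tmul, h1, smul_tmul, tmul_smul, Scheme.Modules.Hom.app_smul,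
      Scheme.Modules.Hom.app_smul, hu', idealSect_smul, ofFun_eq_smul, smul_smul, smul_smul, smul_smul]
    congr 1
    ring
  have h5 := congrArg (fun z => (huu.unit⁻¹ : (Γ(X, V))ˣ).1 • z) h4
  simp only [smul_smul, IsUnit.val_inv_mul, one_smul] at h5
  exact h5

/-- `(W ⊗ I) ⊗ T ⟶ W`. -/
noncomputable def mul (W : X.Modules) :
    CohB1.tensorMod (CohB1.tensorMod W (ClSub.idealMod I)) T ⟶ W :=
  (comm W (ClSub.idealMod I) T).hom ≫ (Tens.assoc W T (ClSub.idealMod I)).hom ≫
    Tens.mapT (𝟙 W) ε.hom ≫ (Tens.runit W).hom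

theorem mul_tmul (W : X.Modules) {U : X.Opens} (w : Γ(W, U)) (i : Γ(ClSub.idealMod I, U)) (t : Γ(T, U)) :
    (mul ε W).app U (tmul (tmul w i) t) =
      (ofFun.symm (ε.hom.app U (tmul t i)) : Γ(X, U)) • w := by
  have h1 : (mul ε W).app U (tmul (tmul w i) t) = (Tens.runit W).hom.app U
    ((Tens.mapT (𝟙 W) ε.hom).app U ((Tens.assoc W T (ClSub.idealMod I)).hom.app U
      ((comm W (ClSub.idealMod I) T).hom.app U (tmul (tmul w i) t)))) := rfl
  rw [h1]
  have h2 : (comm W (ClSub.idealMod I) T).hom.app U (tmul (tmul w i) t) =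
    tmul (tmul w t) i := comm_tmul W (ClSub.idealMod I) T w i t
  have h3 : (Tens.assoc W T (ClSub.idealMod I)).hom.app U (tmul (tmul w t) i) =
    tmul w (tmul t i) := Tens.assocHom_tmul w t i
  have h4 : (Tens.mapT (𝟙 W) ε.hom).app U (tmul w (tmul t i)) =
    tmul w (ε.hom.app U (tmul t i)) := Tens.mapT_tmul (𝟙 W) ε.hom w (tmul t i)
  rw [h2, h3, h4]
  exact Tens.runit_hom_tmul (ofFun.symm (ε.hom.app U (tmul t i))) w

/-- Multiplication by the canonical section. -/
theorem mulSec_mul (hT : PicF.IsInvertible T) (hI : PicF.IsInvertible (ClSub.idealMod I)) (W : X.Modules) :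
    mulSec (can ε) (CohB1.tensorMod W (ClSub.idealMod I)) ≫ mul ε W = LogNCD.inclTwist W I := by
  refine hom_ext_tmul _ _ fun U w i => ?_
  have h1 : (mulSec (can ε) (CohB1.tensorMod W (ClSub.idealMod I)) ≫ mul ε W).app U (tmul w i) =
    (mul ε W).app U (tmul (tmul w i) (res T (le_top : U ≤ ⊤) (can ε))) := rfl
  refine h1.trans ?_
  rw [mul_tmul, eval_eq ε hT hI, incl_app]

end K661.TwMul
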