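import Groth.Agent.Vanish.K910.DescNZ
import Groth.Agent.Vanish.K419.LogRamMain
import Groth.Agent.Vanish.K661.DescTw
import Groth.Agent.Vanish.K661.TwMul

/-!
# Twisted descent of surjectivity in cohomology along alterations of projective manifolds
-/

set_option autoImplicit false
set_option linter.style.haveILetI false

universe u

open CategoryTheory CategoryTheory.Limits AlgebraicGeometry

attribute [local instance] HasDerivedCategory.standard

namespace K661.TwDescMain

open Groth.Agent Groth.Agent.CurvesC.RepX K910.DescTrace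
  Groth.Agent.CohqB.SerTw K661.TwSurj K661.TwMul
open K680.FormMain K680.FormHom K476.ExtStalk Groth.Agent.CycB.ModStalk

section tw

variable {X : Scheme.{u}} {T : X.Modules}

theorem tw_exact (hT : PicF.IsInvertible T) : PreservesFiniteLimits (tw T) ∧ PreservesFiniteColimits (tw T) := by
  have h := (Functor.exact_tfae (tw T)).out 0 3
  exact h.1 fun S hS => shortExact_tw hT hS

/-- Multiplication by a section. -/
noncomputable def mulT (s : Γ(T, ⊤)) : 𝟭 X.Modules ⟶ tw T where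
  app F := mulSec s F
  naturality _ _ φ := mulSec_naturality s φ

end tw

set_option backward.isDefEq.respectTransparency false in
/-- Property (J2) for the pull-back of forms. -/
theorem isPull_J2 {k : Type u} [Field k] [CharZero k] {X X₁ : Scheme.{u}} (n : ℕ)
    (f : X ⟶ Spec (CommRingCat.of k)) (π : X₁ ⟶ X) [IsIntegral X] [IsIntegral X₁]
    [QuasiSeparated f] [QuasiSeparated (π ≫ f)] [SmoothOfRelativeDimension n f]
    [SmoothOfRelativeDimension n (π ≫ f)] {W : X.Modules} {W₁ : X₁.Modules}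
    (hW : ExtPow.IsExtPow n (Omega.sheaf f) W)
    (hW₁ : ExtPow.IsExtPow n (Omega.sheaf (π ≫ f)) W₁)
    {J : W ⟶ (Scheme.Modules.pushforward π).obj W₁}
    (hJ : IsPull π (psi π (Groth.Agent.S5005.result f) (OmegaSh.dOmega (π ≫ f))) hW hW₁ J) :
    ∀ (y : X₁), IsDiscreteValuationRing (X₁.presheaf.stalk y) →
        IsDiscreteValuationRing (X.presheaf.stalk (π y)) →
        ∀ t : X.presheaf.stalk (π y), Irreducible t →
        ∀ a ∈ IsLocalRing.maximalIdeal (X₁.presheaf.stalk y),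
        ∀ (U : X.Opens) (β : Γ(W, U)) (h : π y ∈ U), ∃ ω : W₁.presheaf.stalk y,
          a • W₁.presheaf.germ (π ⁻¹ᵁ U) y h (show Γ(W₁, π ⁻¹ᵁ U) from J.app U β) =
            (π.stalkMap y t) • ω := by
  have hd := Groth.Agent.S5005.result f
  have hd₁ := Groth.Agent.S5005.result (π ≫ f)
  have hr := Groth.Agent.Dual.H339.OmegaRank.isFinLocFreeOfRank_omega n f
  intro y i1 i2 t ht a ha U β h
  have h1 : t ∈ IsLocalRing.maximalIdeal (X.presheaf.stalk (π y)) := by
    rw [ht.maximalIdeal_eq]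
    exact Ideal.mem_span_singleton_self t
  have h2 : t ∉ IsLocalRing.maximalIdeal (X.presheaf.stalk (π y)) ^ 2 := by
    rw [ht.maximalIdeal_eq, Ideal.span_singleton_pow, Ideal.mem_span_singleton]
    rintro ⟨c, hc⟩
    have h3 : t * 1 = t * (t * c) := by rw [mul_one, ← mul_assoc, ← pow_two, ← hc]
    exact ht.not_isUnit (IsUnit.of_mul_eq_one c (mul_left_cancel₀ ht.ne_zero h3).symm)
  obtain ⟨ω, hω⟩ := exists_log_pst π hd hd₁ hr hW hW₁ hJ y h1 h2 ha
    (W.presheaf.germ U (π y) h β)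
  rw [pst_germ] at hω
  exact ⟨ω, hω⟩

/-- **Twisted descent.** -/
theorem twDesc (k : Type u) [Field k] [IsAlgClosed k] [CharZero k] : TwDesc k := by
  intro X X₁ f π _ _ _ _ _ _ _ hdim ⟨A, hA⟩ ⟨A₁, hA₁⟩ r D hD s E hE hEint a ha κ hκ T hT hTI M N φ b hM hN hsurj
  letI : X.Over (Spec (CommRingCat.of k)) := ⟨f⟩
  letI : X₁.Over (Spec (CommRingCat.of k)) := ⟨π ≫ f⟩
  haveI : π.IsOver (Spec (CommRingCat.of k)) := ⟨rfl⟩
  haveI : IsProper (X ↘ Spec (CommRingCat.of k)) := inferInstanceAs (IsProper f)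
  haveI : IsProper (X₁ ↘ Spec (CommRingCat.of k)) := inferInstanceAs (IsProper (π ≫ f))
  obtain ⟨n, hn⟩ := K504.Hodge.exists_relDim k X f
  obtain ⟨n₁, hn₁⟩ := K504.Hodge.exists_relDim k X₁ (π ≫ f)
  obtain rfl : n₁ = n := by
    have h1 := K504.Hodge.topologicalKrullDim_eq f n
    have h2 := K504.Hodge.topologicalKrullDim_eq (π ≫ f) n₁
    rw [h1, h2] at hdim
    exact_mod_cast hdim
  haveI : SmoothOfRelativeDimension n₁ (X ↘ Spec (CommRingCat.of k)) := hn
  haveI : SmoothOfRelativeDimension n₁ (X₁ ↘ Spec (CommRingCat.of k)) := hn₁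
  haveI : DCoh.HasLpull π := S0959.result π
  letI : (DCoh.Lpull π).CommShift ℤ := Groth.Agent.Dcoh.DerPull.lpullCommShift π
  haveI : (DCoh.Lpull π).IsTriangulated := Groth.Agent.Dcoh.DerPull.lpull_isTriangulated π
  obtain ⟨W, hW, hWi⟩ := K455.Canon.exists_canonical (X ↘ Spec (CommRingCat.of k)) n₁
  obtain ⟨W₁, hW₁, hW₁i⟩ := K455.Canon.exists_canonical (π ≫ f) n₁
  obtain ⟨τ, hτ⟩ := K461.SerreDual.exists_form k X n₁ W hW
  obtain ⟨J, hJ, hJ1, hJ3⟩ := K419.LogRamMain.main n₁ f π hW hW₁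
  have hJ2 := isPull_J2 n₁ f π hW hW₁ hJ
  obtain ⟨J', hJ'⟩ := hJ3 hD hE (fun i j => a j i) ha κ hκ
  have hIi : PicF.IsInvertible (ClSub.idealMod (∏ i, E i ^ κ i)) :=
    (Dix.IdealModCartier.isInvertible_of_isInverseOf hTI).2
  obtain ⟨ε⟩ := hTI
  haveI : PreservesFiniteLimits (tw T) := (tw_exact hT).1
  haveI : PreservesFiniteColimits (tw T) := (tw_exact hT).2
  let adj := Scheme.Modules.pullbackPushforwardAdjunction π
  have hj : (adj.homEquiv W _).symm J' ≫ LogNCD.inclTwist W₁ (∏ i, E i ^ κ i) = (adj.homEquiv W W₁).symm J := by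
    rw [← adj.homEquiv_naturality_right_symm, hJ']
  have hj₂ : (mulT (can ε)).app _ ≫ (tw T).map ((adj.homEquiv W _).symm J') ≫ mul ε W₁ =
      (adj.homEquiv W W₁).symm J := by
    refine (Category.assoc _ _ _).symm.trans ?_
    refine (congrArg (· ≫ mul ε W₁) (mulSec_naturality (can ε) ((adj.homEquiv W _).symm J')).symm).trans ?_
    refine (Category.assoc _ _ _).trans ?_
    exact (congrArg ((adj.homEquiv W _).symm J' ≫ ·) (mulSec_mul ε hT hIi W₁)).trans hj
  exact DescTw.main k π (mulT (can ε)) n₁ τ hτ ((adj.homEquiv W W₁).symm J)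
    (K910.DescNZ.inj_J k π n₁ hA hA₁ hW hW₁ J hJ1 hJ2) _ hj₂ φ b hM hN hsurj

end K661.TwDescMain
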