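import Groth.Agent.Vanish.K660.Kol
import Groth.Agent.Coherent.K850.RegSec

/-!
# General members of a system on `X` pulled back to `X₁`; classes of products of divisors
-/

set_option autoImplicit false
universe u

open CategoryTheory CategoryTheory.Limits AlgebraicGeometry Opposite TopologicalSpace

namespace K661.MemPull

open Groth.Agent Groth.Agent.Grpsch.PicGrp Groth.Agent.Fga.JacFactor Groth.Agent.Divis.EffCartier
  Groth.Agent.Fdesc.LocGen K660.KolUp K27.SecScal

theorem isEff_prod_pow' {X : Scheme.{u}} {ι : Type*} (s : Finset ι) (E : ι → X.IdealSheafData)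
    (hE : ∀ i, BlowUp.IsEffCartierIdeal (E i)) (x : ι → ℕ) : BlowUp.IsEffCartierIdeal (∏ i ∈ s, E i ^ x i) := by
  classical
  induction s using Finset.induction_on with
  | empty => rw [Finset.prod_empty]; exact isEff_top
  | insert i s hi ih => rw [Finset.prod_insert hi]; exact isEff_mul (K660.KolUp.isEff_pow (hE i) _) ih

theorem dcl_eq {X : Scheme.{u}} {I J : X.IdealSheafData} (h : I = J) (hI : BlowUp.IsEffCartierIdeal I)
    (hJ : BlowUp.IsEffCartierIdeal J) : dcl I hI = dcl J hJ := by
  subst h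
  rfl

theorem dcl_prod {X : Scheme.{u}} {ι : Type*} (s : Finset ι) (E : ι → X.IdealSheafData)
    (hE : ∀ i, BlowUp.IsEffCartierIdeal (E i)) (x : ι → ℕ) (h : BlowUp.IsEffCartierIdeal (∏ i ∈ s, E i ^ x i)) :
    dcl _ h = ∏ i ∈ s, dcl (E i) (hE i) ^ x i := by
  classical
  induction s using Finset.induction_on with
  | empty => exact (dcl_eq Finset.prod_empty h isEff_top).trans (dcl_top.trans Finset.prod_empty.symm)
  | insert i s hi ih =>
    have h1 := isEff_prod_pow' s E hE x
    have h2 := K660.KolUp.isEff_pow (hE i) (x i)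
    rw [dcl_eq (Finset.prod_insert hi) h (isEff_mul h2 h1), dcl_mul h2 h1, dcl_pow (hE i) (x i) h2, ih h1]
    exact (Finset.prod_insert hi).symm

section member

variable {k : Type u} [Field k] {X X₁ : Scheme.{u}} [X.Over (Spec (CommRingCat.of k))]
  [X₁.Over (Spec (CommRingCat.of k))] (π : X₁ ⟶ X)
  (hπ : π ≫ (X ↘ Spec (CommRingCat.of k)) = X₁ ↘ Spec (CommRingCat.of k))

include hπ in
theorem scal_top (c : k) : (π.app ⊤).hom (scal k ⊤ c) = scal k (X := X₁) ⊤ c := by
  have h1 : ∀ (Y : Scheme.{u}) [Y.Over (Spec (CommRingCat.of k))] (c : k), scal k (X := Y) ⊤ c =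
      (Y ↘ Spec (CommRingCat.of k)).appTop.hom ((Scheme.ΓSpecIso (CommRingCat.of k)).inv.hom c) := by
    intro Y _ c
    exact ores_refl _
  rw [h1, h1, ← hπ, Scheme.Hom.comp_appTop]
  rfl

include hπ in
theorem pullHom_member {B : X.Modules} {ι : Type} [Fintype ι] (s : ι → (Coh.structureModule X ⟶ B)) (c : ι → k) :
    pullHom π (K27.Bert0.member k s c) = K27.Bert0.member k (fun i => pullHom π (s i)) c := by
  have h1 : ∀ (t : Coh.structureModule X ⟶ B), sec (pullHom π t) ⊤ = pullSec π (sec t ⊤) := fun t =>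
    sec_pullHom π t ⊤
  have h2 : ∀ (J : Finset ι) (t : ι → (Coh.structureModule X ⟶ B)),
      sec (pullHom π (∑ i ∈ J, t i)) ⊤ = ∑ i ∈ J, sec (pullHom π (t i)) ⊤ := by
    intro J t
    classical
    induction J using Finset.induction_on with
    | empty =>
      rw [Finset.sum_empty, Finset.sum_empty, h1, K27.SecScal.sec_zero]
      exact map_zero (((Scheme.Modules.pullbackPushforwardAdjunction π).unit.app B).app ⊤).hom
    | insert a J ha ih =>
      rw [Finset.sum_insert ha, Finset.sum_insert ha, h1, K27.SecScal.sec_add, pullSec_add, ← h1, ← h1, ih]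
      rfl
  apply hom_ext_sec
  rw [K27.Bert0.member, h2, K27.Bert0.member, K27.SecScal.sec_sum]
  refine Finset.sum_congr rfl fun i _ => ?_
  rw [h1, K27.SecScal.sec_smulMod, pullSec_smul, K27.SecScal.sec_smulMod, h1, scal_top π hπ]
  rfl

variable [IsAlgClosed k] [CharZero k] [Smooth (X₁ ↘ Spec (CommRingCat.of k))] [CompactSpace X₁] [CompactSpace X]

include hπ in
/-- The pull-back to `X₁` of a general member of a globally generated system on `X` crosses a normal crossing divisor
of `X₁` normally. -/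
theorem exists_member_pull {r : ℕ} (E : Fin r → X₁.IdealSheafData)
    (hE : LogNCD.IsNCD E (X₁ ↘ Spec (CommRingCat.of k))) {B : X.Modules} (hB : PicF.IsInvertible B)
    (hgg : Curv2.IsGloballyGenerated B) :
    ∃ s : Coh.structureModule X ⟶ B,
      LogNCD.IsNCD (Fin.snoc (α := fun _ => X₁.IdealSheafData) E ((PicF2.zeroScheme B s).comap π))
        (X₁ ↘ Spec (CommRingCat.of k)) := by
  obtain ⟨r₁, s, hs⟩ := exists_sections hB hgg
  have hs' : ⨆ i, PicF2.zeroScheme _ (pullHom π (s i)) = ⊤ := by
    have h1 : ∀ i, PicF2.zeroScheme _ (pullHom π (s i)) = (PicF2.zeroScheme B (s i)).comap π := fun i =>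
      (K850.RegSec.comap_zeroScheme π hB (s i)).symm
    simp only [h1]
    have h2 := (Scheme.IdealSheafData.map_gc π).l_iSup (f := fun i => PicF2.zeroScheme B (s i))
    rw [← h2, hs]
    exact Scheme.IdealSheafData.comap_top π
  obtain ⟨p, hp, hpc⟩ := K27.Bert0.exists_poly_isNCD (k := k) (X := X₁) (D := E) hE (isInvertible_pullback π hB) _ hs'
  have : Infinite k := IsAlgClosed.instInfinite
  obtain ⟨a, ha⟩ := exists_eval_ne_zero p hp
  refine ⟨K27.Bert0.member k s a, ?_⟩
  rw [K850.RegSec.comap_zeroScheme π hB, pullHom_member π hπ]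
  exact hpc a ha

end member

end K661.MemPull
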