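import Groth.Agent.Vanish.K661.Zero

/-!
# S16902, S16906, S17117, S17118 modulo `Alt`, `Desc`, `EV`, and the big case
-/

set_option autoImplicit false
universe u

open CategoryTheory CategoryTheory.Limits AlgebraicGeometry Opposite TopologicalSpace

namespace K661.Rows

open Groth.Agent Groth.Agent.Fga Groth.Agent.Fga.PicMon Groth.Agent.Grpsch.PicGrp Groth.Agent.Fga.JacFactor
  Groth.Agent.Divis.EffCartier Groth.Agent.Fdesc.LocGen K660.KolUp K910.HZ K931.Eff K661.Grow K661.HypPlane K661.Ind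
  K661.Zero K909.AltInterface
open K909.Kleiman (Nef NefC)

variable {k : Type u} [Field k]

/-- The structure sheaf is nef. -/
theorem nef_one {X : Scheme.{u}} [X.Over (Spec (CommRingCat.of k))] [IsProper (X ↘ Spec (CommRingCat.of k))] :
    Nef k X (Coh.structureModule X) := by
  rw [K909.Kleiman.nef_iff_nefC k X isInvertible_structureModule, ← one_def]
  intro Y i _ hY hdim
  have h := K909.Kleiman.dOn_pow k X i hdim 1 0
  rw [pow_zero] at h
  simp at h
  exact h.ge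

theorem isInverseOf_structureModule {X : Scheme.{u}} :
    ClSub.IsInverseOf (Coh.structureModule X) (Coh.structureModule X) := by
  rw [isInverseOf_iff isInvertible_structureModule isInvertible_structureModule, ← one_def, mul_one]

/-- Twisting by the structure sheaf does not change the growth hypothesis. -/
theorem finrank_one {X : Scheme.{u}} [X.Over (Spec (CommRingCat.of k))] {L : X.Modules} (hL : PicF.IsInvertible L)
    (n : ℕ) : Module.finrank k (Coh.HH X (CohB1.tensorPow (CohB1.tensorMod L (Coh.structureModule X)) n) 0) =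
      Module.finrank k (Coh.HH X (CohB1.tensorPow L n) 0) := by
  rw [← HZ_mc, ← HZ_mc]
  congr 1
  rw [mc_tensorPow, mc_tensorPow, mc_tensor, mc_one, mul_one]

variable [IsAlgClosed k] [CharZero k]

/-- S17118 modulo the big case. -/
theorem s17118 (hBig : BigCase k fun _ => True)
    (X : Scheme.{u}) [X.Over (Spec (CommRingCat.of k))] [IsProper (X ↘ Spec (CommRingCat.of k))]
    [Smooth (X ↘ Spec (CommRingCat.of k))] [IrreducibleSpace X] (n : ℕ) (hn : topologicalKrullDim X = n)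
    (H : X.Modules) (hH : CohB1.IsAmple H)
    (L Linv : X.Modules) (hL : PicF.IsInvertible L) (hLinv : ClSub.IsInverseOf Linv L)
    (N : ℕ) (hN : 1 ≤ N) {r : ℕ} (D : Fin r → X.IdealSheafData) (hD : LogNCD.IsNCD D (X ↘ Spec (CommRingCat.of k)))
    (α : Fin r → ℕ) (hα : ∀ j, 0 < α j ∧ α j < N)
    (hnef : Nef k X (CohB1.tensorMod (CohB1.tensorPow L N) (ClSub.idealMod (∏ j, D j ^ α j))))
    (Nn Nninv : X.Modules) (hNn : PicF.IsInvertible Nn) (hNninv : ClSub.IsInverseOf Nninv Nn)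
    (hnefN : Nef k X Nn)
    (κ₀ : ℕ) (hκ : ∃ ν a : ℕ, 0 < ν ∧ 0 < a ∧ ∀ μ : ℕ, 1 ≤ μ →
        μ ^ κ₀ ≤ a * Module.finrank k (Coh.HH X (CohB1.tensorPow (CohB1.tensorMod L Nninv) (ν * μ)) 0))
    (b : ℕ) (hb : b < κ₀) :
    Subsingleton (Coh.HH X Linv b) := by
  have hP := isEff_prod_pow hD α
  have hI := Dix.IdealModCartier.isInvertible_idealMod hP
  refine fin (fun _ => True) hBig X n hn H hH L Linv hL hLinv N hN trivial D hD α hα hP ?_ Nn Nninv hNn hNninv hnefN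
    κ₀ hκ b hb
  have h1 := (K909.Kleiman.nef_iff_nefC k X (isInvertible_tensorMod (isInvertible_tensorPow hL N) hI)).1 hnef
  rw [← mk_mul_mk (isInvertible_tensorPow hL N) hI, mk_tensorPow hL] at h1
  exact h1

/-- S17117 modulo the big case. -/
theorem s17117 (hBig : BigCase k fun _ => True)
    (X : Scheme.{u}) [X.Over (Spec (CommRingCat.of k))] [IsProper (X ↘ Spec (CommRingCat.of k))]
    [Smooth (X ↘ Spec (CommRingCat.of k))] [IrreducibleSpace X] (n : ℕ) (hn : topologicalKrullDim X = n)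
    (H : X.Modules) (hH : CohB1.IsAmple H)
    (L Linv : X.Modules) (hL : PicF.IsInvertible L) (hLinv : ClSub.IsInverseOf Linv L)
    (N : ℕ) (hN : 1 ≤ N) {r : ℕ} (D : Fin r → X.IdealSheafData) (hD : LogNCD.IsNCD D (X ↘ Spec (CommRingCat.of k)))
    (α : Fin r → ℕ) (hα : ∀ j, 0 < α j ∧ α j < N)
    (hnef : Nef k X (CohB1.tensorMod (CohB1.tensorPow L N) (ClSub.idealMod (∏ j, D j ^ α j))))
    (κ₀ : ℕ) (hκ : ∃ ν a : ℕ, 0 < ν ∧ 0 < a ∧ ∀ μ : ℕ, 1 ≤ μ →
        μ ^ κ₀ ≤ a * Module.finrank k (Coh.HH X (CohB1.tensorPow L (ν * μ)) 0))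
    (b : ℕ) (hb : b < κ₀) :
    Subsingleton (Coh.HH X Linv b) := by
  refine s17118 hBig X n hn H hH L Linv hL hLinv N hN D hD α hα hnef _ _ isInvertible_structureModule
    isInverseOf_structureModule nef_one κ₀ ?_ b hb
  obtain ⟨ν, a, hν, ha, h⟩ := hκ
  refine ⟨ν, a, hν, ha, fun μ hμ => ?_⟩
  rw [finrank_one hL]
  exact h μ hμ

/-- S16906 modulo `Alt`, `Desc`, `EV`. -/
theorem s16906 (hAlt : Alt k) (hDesc : Desc k) (hEV : EV k)
    (X : Scheme.{u}) [X.Over (Spec (CommRingCat.of k))] [IsProper (X ↘ Spec (CommRingCat.of k))]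
    [Smooth (X ↘ Spec (CommRingCat.of k))] [IrreducibleSpace X] (n : ℕ) (hn : topologicalKrullDim X = n)
    (H : X.Modules) (hH : CohB1.IsAmple H) (L Linv : X.Modules) (hL : PicF.IsInvertible L) (hLinv : ClSub.IsInverseOf Linv L)
    (N Ninv : X.Modules) (hN : PicF.IsInvertible N) (hNinv : ClSub.IsInverseOf Ninv N)
    (hnef : Nef k X L) (hnefN : Nef k X N)
    (κ₀ : ℕ) (hκ : ∃ ν a : ℕ, 0 < ν ∧ 0 < a ∧ ∀ μ : ℕ, 1 ≤ μ →
        μ ^ κ₀ ≤ a * Module.finrank k (Coh.HH X (CohB1.tensorPow (CohB1.tensorMod L Ninv) (ν * μ)) 0))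
    (b : ℕ) (hb : b < κ₀) :
    Subsingleton (Coh.HH X Linv b) := by
  have hD : LogNCD.IsNCD (fun i : Fin 0 => (i.elim0 : X.IdealSheafData)) (X ↘ Spec (CommRingCat.of k)) := by
    intro x hx
    obtain ⟨⟨i, -⟩⟩ := hx
    exact i.elim0
  have hP := isEff_prod_pow hD (fun i => i.elim0)
  refine fin (· = 0) (bigCase_zero hAlt hDesc hEV) X n hn H hH L Linv hL hLinv 1 le_rfl rfl _ hD
    (fun i => i.elim0) (fun i => i.elim0) hP ?_ N Ninv hN hNinv hnefN κ₀ hκ b hb
  rw [dcl_one hP (Finset.prod_empty ..), mul_one, pow_one]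
  exact (K909.Kleiman.nef_iff_nefC k X hL).1 hnef

/-- S16902 modulo `Alt`, `Desc`, `EV`. -/
theorem s16902 (hAlt : Alt k) (hDesc : Desc k) (hEV : EV k)
    (X : Scheme.{u}) [X.Over (Spec (CommRingCat.of k))] [IsProper (X ↘ Spec (CommRingCat.of k))]
    [Smooth (X ↘ Spec (CommRingCat.of k))] [IrreducibleSpace X] (n : ℕ) (hn : topologicalKrullDim X = n)
    (H : X.Modules) (hH : CohB1.IsAmple H) (L Linv : X.Modules) (hL : PicF.IsInvertible L) (hLinv : ClSub.IsInverseOf Linv L)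
    (hnef : Nef k X L)
    (κ₀ : ℕ) (hκ : ∃ ν a : ℕ, 0 < ν ∧ 0 < a ∧ ∀ μ : ℕ, 1 ≤ μ →
        μ ^ κ₀ ≤ a * Module.finrank k (Coh.HH X (CohB1.tensorPow L (ν * μ)) 0))
    (b : ℕ) (hb : b < κ₀) :
    Subsingleton (Coh.HH X Linv b) := by
  refine s16906 hAlt hDesc hEV X n hn H hH L Linv hL hLinv _ _ isInvertible_structureModule
    isInverseOf_structureModule hnef nef_one κ₀ ?_ b hb
  obtain ⟨ν, a, hν, ha, h⟩ := hκ
  refine ⟨ν, a, hν, ha, fun μ hμ => ?_⟩
  rw [finrank_one hL]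
  exact h μ hμ

end K661.Rows
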