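import Groth.Agent.Vanish.K660.Kol
import Groth.Agent.CohqB.SerTw

/-!
# Twisting `E ⊗ I ⟶ E` by an invertible module; the twisted descent property `TwDesc`
-/

set_option autoImplicit false
universe u

open CategoryTheory CategoryTheory.Limits AlgebraicGeometry Opposite TopologicalSpace

namespace K661.TwSurj

open Groth.Agent Groth.Agent.CohqB.SerTw Groth.Agent.Fdesc.LocGen Groth.Agent.Ega2 K660.KolUp
  Groth.Agent.Sga67.Sec

variable {X : Scheme.{u}}

theorem comm_inclTwist (F T : X.Modules) (I : X.IdealSheafData) :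
    (comm F (ClSub.idealMod I) T).hom ≫ LogNCD.inclTwist (CohB1.tensorMod F T) I =
      (tw T).map (LogNCD.inclTwist F I) := by
  refine Tens.hom_ext₃ _ _ fun U m i l => ?_
  have h1 : ((comm F (ClSub.idealMod I) T).hom ≫ LogNCD.inclTwist (CohB1.tensorMod F T) I).app U
      (Tens.tmul (Tens.tmul m i) l) = OmegaSh.idealSect I U i • Tens.tmul m l := by
    refine (congrArg ((LogNCD.inclTwist (CohB1.tensorMod F T) I).app U)
      (comm_tmul F (ClSub.idealMod I) T m i l)).trans ?_
    exact K913.TauAff.inclTwist_tmul (CohB1.tensorMod F T) I U (Tens.tmul m l) i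
  have h2 : ((tw T).map (LogNCD.inclTwist F I)).app U (Tens.tmul (Tens.tmul m i) l) =
      OmegaSh.idealSect I U i • Tens.tmul m l := by
    refine (tw_map_tmul (LogNCD.inclTwist F I) (Tens.tmul m i) l).trans ?_
    have h3 : (LogNCD.inclTwist F I).app U (Tens.tmul m i) = OmegaSh.idealSect I U i • m :=
      K913.TauAff.inclTwist_tmul F I U m i
    rw [h3]
    exact smul_tmul (OmegaSh.idealSect I U i) m l
  exact h1.trans h2.symm

/-- The twist of the pull-back of `E ⊗ I ⟶ E`. -/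
theorem surj_tw_pullback {Y : Scheme.{u}} (π : Y ⟶ X) {E : X.Modules} (hE : PicF.IsInvertible E)
    {I : X.IdealSheafData} (hI : BlowUp.IsEffCartierIdeal I) (hI' : BlowUp.IsEffCartierIdeal (I.comap π))
    (T : Y.Modules) {b : ℕ}
    (h : Surj (LogNCD.inclTwist (CohB1.tensorMod ((Scheme.Modules.pullback π).obj E) T) (I.comap π)) b) :
    Surj ((tw T).map ((Scheme.Modules.pullback π).map (LogNCD.inclTwist E I))) b := by
  have hIinv := Groth.Agent.Dix.IdealModCartier.isInvertible_idealMod hI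
  obtain ⟨e₁, he₁⟩ := K660.SubTw.exists_iso_pullback_inclTwist π hE hI (isInvertible_tensorMod hE hIinv) hI'
    (K660.Kol.isFinLocFree_of_isInvertible hE)
    (K660.Kol.isFinLocFree_of_isInvertible (isInvertible_pullback π hE))
  have h1 : (tw T).map e₁.hom ≫ (comm _ (ClSub.idealMod (I.comap π)) T).hom ≫
      LogNCD.inclTwist (CohB1.tensorMod ((Scheme.Modules.pullback π).obj E) T) (I.comap π) =
      (tw T).map ((Scheme.Modules.pullback π).map (LogNCD.inclTwist E I)) := by
    refine (congrArg ((tw T).map e₁.hom ≫ ·) (comm_inclTwist _ T (I.comap π))).trans ?_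
    exact ((tw T).map_comp _ _).symm.trans (congrArg (tw T).map he₁)
  exact Surj.of_iso ((tw T).mapIso e₁ ≪≫ comm _ (ClSub.idealMod (I.comap π)) T) (Iso.refl _)
    ((Category.comp_id _).trans (h1.symm.trans (Category.assoc _ _ _).symm)) h

/-- (TWISTED DESC): `π : X₁ ⟶ X` an alteration of projective manifolds, `D`, `E` normal crossing divisors on `X`, `X₁`
with `π^* D_j = Σ a_ji E_i`, `K = Σ κ_i E_i` with `κ_i = 0` or `κ_i < Σ_j a_ji`.  Surjectivity of `H^b(φ)` may be tested on
`H^b(π^* φ ⊗ O(K))`. -/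
def TwDesc (k : Type u) [Field k] : Prop :=
  ∀ (X X₁ : Scheme.{u}) (f : X ⟶ Spec (CommRingCat.of k)) (π : X₁ ⟶ X) [IsIntegral X] [IsIntegral X₁]
    [IsProper f] [Smooth f] [IsProper π] [Smooth (π ≫ f)] [Surjective π],
    topologicalKrullDim X₁ = topologicalKrullDim X →
    (∃ A : X.Modules, CohB1.IsAmple A) → (∃ A₁ : X₁.Modules, CohB1.IsAmple A₁) →
    ∀ (r : ℕ) (D : Fin r → X.IdealSheafData) (_ : LogNCD.IsNCD D f) (s : ℕ) (E : Fin s → X₁.IdealSheafData)
      (_ : LogNCD.IsNCD E (π ≫ f)) (_ : ∀ i, IsIntegral (E i).subscheme) (a : Fin r → Fin s → ℕ)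
      (_ : ∀ j, (D j).comap π = ∏ i, E i ^ a j i) (κ : Fin s → ℕ) (_ : ∀ i, κ i = 0 ∨ κ i + 1 ≤ ∑ j, a j i)
      (T : X₁.Modules) (_ : PicF.IsInvertible T)
      (_ : ClSub.IsInverseOf T (ClSub.idealMod (∏ i, E i ^ κ i)))
      (M N : X.Modules) (φ : M ⟶ N) (b : ℕ), PicF.IsInvertible M → PicF.IsInvertible N →
      Surj ((tw T).map ((Scheme.Modules.pullback π).map φ)) b → Surj φ b

end K661.TwSurj
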