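import Groth.Agent.Vanish.K661.Zero
import Groth.Agent.Vanish.K661.MemPull
import Groth.Agent.Vanish.K661.TwSurj

/-!
# The big case of the vanishing theorem with a normal crossing divisor, from twisted descent
-/

set_option autoImplicit false
universe u

open CategoryTheory CategoryTheory.Limits AlgebraicGeometry Opposite TopologicalSpace

namespace K661.BigD

open Groth.Agent Groth.Agent.Fga Groth.Agent.Fga.PicMon Groth.Agent.Grpsch.PicGrp Groth.Agent.Fga.JacFactor
  Groth.Agent.Divis.EffCartier Groth.Agent.Fdesc.LocGen K660.KolUp K910.HZ K931.Eff K661.Grow K661.HypPlane K661.Ind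
  K661.Zero K909.AltInterface K661.MemPull K661.TwSurj
open K909.Kleiman (Nef NefC)

section num

theorem kappa_cond {N m ν S β c : ℕ} (hN : 1 ≤ N) (hm : c < m) (hβ : β ≤ (N - 1) * S) :
    (m * β + c) / (N * m + ν) = 0 ∨ (m * β + c) / (N * m + ν) + 1 ≤ S := by
  rcases Nat.eq_zero_or_pos S with hS | hS
  · left
    subst hS
    have hβ0 : β = 0 := by simpa using hβ
    subst hβ0
    apply Nat.div_eq_of_lt
    nlinarith
  · right
    apply Nat.div_lt_of_lt_mul
    obtain ⟨N', rfl⟩ : ∃ N', N = N' + 1 := ⟨N - 1, by omega⟩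
    rw [Nat.add_sub_cancel] at hβ
    have h1 : m * β ≤ m * (N' * S) := Nat.mul_le_mul_left _ hβ
    have h2 : c < m * S := lt_of_lt_of_le hm (Nat.le_mul_of_pos_right _ hS)
    have h3 : ((N' + 1) * m + ν) * S = m * (N' * S) + m * S + ν * S := by ring
    have h4 : 0 ≤ ν * S := Nat.zero_le _
    omega

/-- The components with positive multiplicities. -/
theorem exists_pos {s : ℕ} {M : Type*} [CommMonoid M] (E : Fin s → M) (δ : Fin s → ℕ) :
    ∃ (r' : ℕ) (σ : Fin r' → Fin s), Function.Injective σ ∧ (∀ j, 0 < δ (σ j)) ∧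
      ∏ j, E (σ j) ^ δ (σ j) = ∏ i, E i ^ δ i := by
  classical
  let J : Finset (Fin s) := Finset.univ.filter fun j => δ j ≠ 0
  let e := J.equivFin
  refine ⟨J.card, fun j => (e.symm j).1, ?_, ?_, ?_⟩
  · intro i j h
    exact e.symm.injective (Subtype.ext h)
  · intro j
    exact Nat.pos_of_ne_zero (Finset.mem_filter.1 (e.symm j).2).2
  · rw [Equiv.prod_comp e.symm (fun j : J => E j.1 ^ δ j.1)]
    rw [Finset.prod_coe_sort J (fun j => E j ^ δ j)]
    apply Finset.prod_subset (Finset.filter_subset _ _)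
    intro j _ hj
    have : δ j = 0 := by
      by_contra h
      exact hj (Finset.mem_filter.2 ⟨Finset.mem_univ _, h⟩)
    rw [this, pow_zero]

theorem aux1 {G : Type*} [CommGroup G] (x y z : G) : x * z⁻¹ * (y * z) = x * y := by
  rw [mul_comm y z, mul_assoc, inv_mul_cancel_left]

theorem aux2 {G : Type*} [CommGroup G] {x z w p q : G} {N m ν : ℕ} (h : z ^ (N * m + ν) * w = p ^ m * q) :
    (x * z) ^ (N * m + ν) * w = (x ^ N * p) ^ m * (x ^ ν * q) := by
  rw [mul_pow, mul_assoc, h, pow_add, pow_mul, mul_pow (x ^ N) p m]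
  exact mul_mul_mul_comm _ _ _ _

end num

variable {k : Type u} [Field k] [IsAlgClosed k] [CharZero k]

theorem bigCase (hAlt : Alt k) (hTw : TwDesc k) (hEV : EV k) : BigCase k (fun _ => True) := by
  intro X _ _ _ _ n hn A hA L Linv hL hLinv N hN r _ D hD α hα hP hnef ν hν a ha he b hb
  have := IntAdd.isNoetherian k X
  have hsep := K931.Basic.isSeparated k X
  have hcomp := K931.Basic.compactSpace k X
  have hLi : PicF.IsInvertible Linv := (Dix.IdealModCartier.isInvertible_of_isInverseOf hLinv).1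
  have hDe := fun j => K911.Ncd.isEff_of_isNCD hD j
  -- the divisor `C`
  obtain ⟨C, hC, hCd⟩ := K660.Semi.Eff.exists_div he
  -- the alteration
  have hηC : genericPoint X ∉ C.support := K660.Ram.genericPoint_notMem_support hC
  have hηD : ∀ j, genericPoint X ∉ (D j).support := fun j => K660.Ram.genericPoint_notMem_support (hDe j)
  obtain ⟨X₁, π, A₁, s, E, hX₁, hsm, hπ, hπs, hdim, hA₁, hE, hEint, hcov⟩ :=
    hAlt X (X ↘ Spec (CommRingCat.of k)) A hA ((C.support : Set X) ∪ ⋃ j, ((D j).support : Set X))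
    (C.support.isClosed.union (isClosed_iUnion_of_finite fun j => (D j).support.isClosed)) (fun h => by
      have h1 : genericPoint X ∈ (C.support : Set X) ∪ ⋃ j, ((D j).support : Set X) := by rw [h]; trivial
      rcases h1 with h1 | h1
      · exact hηC h1
      · obtain ⟨j, hj⟩ := Set.mem_iUnion.1 h1
        exact hηD j hj)
  have hπη : π (genericPoint X₁) = genericPoint X := by
    obtain ⟨x, hx⟩ := π.surjective (genericPoint X)
    have h1 : π (genericPoint X₁) ⤳ genericPoint X := by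
      rw [← hx]
      exact ((genericPoint_spec X₁).specializes trivial).map π.continuous
    exact (h1.antisymm ((genericPoint_spec X).specializes trivial)).eq
  let _ : X₁.Over (Spec (CommRingCat.of k)) := ⟨π ≫ (X ↘ Spec (CommRingCat.of k))⟩
  have hX₁p : IsProper (X₁ ↘ Spec (CommRingCat.of k)) :=
    inferInstanceAs (IsProper (π ≫ (X ↘ Spec (CommRingCat.of k))))
  have hX₁s : Smooth (X₁ ↘ Spec (CommRingCat.of k)) := hsm
  have hX₁N := IntAdd.isNoetherian k X₁
  have hcomp₁ := K931.Basic.compactSpace k X₁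
  have hE' : LogNCD.IsNCD E (X₁ ↘ Spec (CommRingCat.of k)) := hE
  have hEe := fun j => K911.Ncd.isEff_of_isNCD hE j
  have hmult : ∀ {I : X.IdealSheafData} (_ : BlowUp.IsEffCartierIdeal I) (_ : genericPoint X ∉ I.support)
      (_ : ∀ x ∈ I.support, x ∈ (C.support : Set X) ∪ ⋃ j, ((D j).support : Set X)),
      ∃ c : Fin s → ℕ, I.comap π = ∏ i, E i ^ c i := by
    intro I hI hη hsub
    refine Groth.Agent.S1659.result X₁ (I.comap π) (K660.Kol.isEff_comap_of_generic π hI (by rw [hπη]; exact hη))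
      s E hEe hEint fun x hx => Set.mem_iUnion.2 (hcov x (hsub _ ((K911.Ncd.mem_support_comap I π x).1 hx)))
  obtain ⟨c, hc⟩ := hmult hC hηC (fun x hx => Or.inl hx)
  choose e he' using fun j => hmult (hDe j) (hηD j) (fun x hx => Or.inr (Set.mem_iUnion.2 ⟨j, hx⟩))
  -- numerical data
  let m : ℕ := ∑ i, c i + 1
  have hcm : ∀ i, c i < m := fun i => by
    have := Finset.single_le_sum (f := c) (fun i _ => Nat.zero_le _) (Finset.mem_univ i)
    omega
  let M : ℕ := N * m + ν
  have hM2 : 2 ≤ M := by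
    have : 1 ≤ N * m := Nat.mul_pos hN (Nat.succ_pos _)
    omega
  let β : Fin s → ℕ := fun i => ∑ j, α j * e j i
  have hβ : ∀ i, β i ≤ (N - 1) * ∑ j, e j i := fun i => by
    rw [Finset.mul_sum]
    exact Finset.sum_le_sum fun j _ => Nat.mul_le_mul_right _ (by have := (hα j).2; omega)
  let κ : Fin s → ℕ := fun i => (m * β i + c i) / M
  let δ : Fin s → ℕ := fun i => (m * β i + c i) % M
  have hκ : ∀ i, κ i = 0 ∨ κ i + 1 ≤ ∑ j, e j i := fun i => kappa_cond hN (hcm i) (hβ i)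
  have hδ : ∀ i, δ i < M := fun i => Nat.mod_lt _ (by omega)
  have hκδ : ∀ i, κ i * M + δ i = m * β i + c i := fun i => Nat.div_add_mod' _ _
  -- classes
  have hprodE : ∀ x : Fin s → ℕ, BlowUp.IsEffCartierIdeal (∏ i, E i ^ x i) := isEff_prod_pow' _ E hEe
  let ε : Fin s → Pic X₁ := fun i => dcl (E i) (hEe i)
  have hε : ∀ (x : Fin s → ℕ) (h : BlowUp.IsEffCartierIdeal (∏ i, E i ^ x i)), dcl _ h = ∏ i, ε i ^ x i :=
    fun x h => dcl_prod _ E hEe x h
  have hεC : pull π (dcl C hC) = ∏ i, ε i ^ c i := by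
    have h1 : BlowUp.IsEffCartierIdeal (C.comap π) := hc ▸ hprodE c
    rw [pull_dcl π hC h1, dcl_eq hc h1 (hprodE c), hε]
  have hεD : ∀ j, pull π (dcl (D j) (hDe j)) = ∏ i, ε i ^ e j i := fun j => by
    have h1 : BlowUp.IsEffCartierIdeal ((D j).comap π) := he' j ▸ hprodE (e j)
    rw [pull_dcl π (hDe j) h1, dcl_eq (he' j) h1 (hprodE (e j)), hε]
  have hεP : pull π (dcl _ hP) = ∏ i, ε i ^ β i := by
    rw [dcl_prod _ D hDe α hP, map_prod]
    simp only [map_pow, hεD, ← Finset.prod_pow, ← pow_mul]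
    rw [Finset.prod_comm]
    refine Finset.prod_congr rfl fun i _ => ?_
    rw [Finset.prod_pow_eq_pow_sum]
    congr 1
    exact Finset.sum_congr rfl fun j _ => mul_comm _ _
  -- the ample class `g`
  set g : Pic X := (mk L hL ^ N * dcl _ hP) ^ m * a with hg
  have hgA : Amp g := amp_of_nefC n hn.le hnef ha m
  obtain ⟨q₀, hq₀, hqg⟩ := K660.Semi.Amp.eventually_ggc hgA 1
  have hgg := hqg q₀ le_rfl
  rw [mul_one] at hgg
  obtain ⟨B, hB, hBg, hBgg⟩ := hgg
  have hBA : CohB1.IsAmple B := by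
    rw [← amp_mk hB, ← hBg]
    exact hgA.pow hq₀
  obtain ⟨t₀, ht₀⟩ := exists_member_pull (k := k) π rfl E hE' hB hBgg
  set F₀ := PicF2.zeroScheme B t₀ with hF₀
  have hF₁e : BlowUp.IsEffCartierIdeal (F₀.comap π) := by
    have := K911.Ncd.isEff_of_isNCD ht₀ (Fin.last s)
    simpa using this
  have hF₀e : BlowUp.IsEffCartierIdeal F₀ := by
    refine K513.Theta1.isEffCartierIdeal_zeroScheme hB t₀ ?_
    intro h0
    have h1 := K660.Ram.genericPoint_notMem_support hF₁e
    apply h1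
    rw [K911.Ncd.mem_support_comap, hF₀, Groth.Agent.Pi1C.ZeroScheme.mem_support_iff t₀ hB, h0,
      Ega2.FiniteSet.genLocus_zero]
    exact fun h => h
  have hF₀d : dcl F₀ hF₀e = (g ^ q₀)⁻¹ := by
    have := Groth.Agent.Fga.ZeroClass.mk_eq_inv_dcl hB _ (K513.Theta1.isZeroIdeal_zeroScheme hB t₀) hF₀e
    rw [hBg, this, inv_inv]
  have hF₁d : dcl (F₀.comap π) hF₁e = (pull π g ^ q₀)⁻¹ := by
    rw [← pull_dcl π hF₀e hF₁e, hF₀d, map_inv, map_pow]
  -- `L₁`
  obtain ⟨T, hT, hTd⟩ := exists_mk (∏ i, ε i ^ κ i)⁻¹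
  have hK := hprodE κ
  have hKI := Dix.IdealModCartier.isInvertible_idealMod hK
  have hKd : mk (ClSub.idealMod (∏ i, E i ^ κ i)) hKI = ∏ i, ε i ^ κ i := hε κ hK
  have hTI : ClSub.IsInverseOf T (ClSub.idealMod (∏ i, E i ^ κ i)) := by
    rw [isInverseOf_iff hT hKI, hKd, ← hTd, inv_mul_cancel]
  have hLπ := isInvertible_pullback π hL
  have hLiπ := isInvertible_pullback π hLi
  have hL₁ := isInvertible_tensorMod hLπ hKI
  have hL₁i := isInvertible_tensorMod hLiπ hT
  have hLL : mk Linv hLi * mk L hL = 1 := (isInverseOf_iff hLi hL).1 hLinv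
  have hL₁c : mk _ hL₁ = pull π (mk L hL) * ∏ i, ε i ^ κ i := by rw [← mk_mul_mk hLπ hKI, hKd, pull_mk]
  have hL₁inv : ClSub.IsInverseOf (CohB1.tensorMod ((Scheme.Modules.pullback π).obj Linv) T)
      (CohB1.tensorMod ((Scheme.Modules.pullback π).obj L) (ClSub.idealMod (∏ i, E i ^ κ i))) := by
    rw [isInverseOf_iff hL₁i hL₁, hL₁c, ← mk_mul_mk hLiπ hT, ← hTd, ← pull_mk π hLi, aux1, ← map_mul, hLL, map_one]
  have hL₁M : mk _ hL₁ ^ M * ∏ i, ε i ^ δ i = pull π g := by
    have h1 : (∏ i, ε i ^ κ i) ^ M * ∏ i, ε i ^ δ i = (∏ i, ε i ^ β i) ^ m * ∏ i, ε i ^ c i := by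
      rw [← Finset.prod_pow, ← Finset.prod_pow, ← Finset.prod_mul_distrib, ← Finset.prod_mul_distrib]
      refine Finset.prod_congr rfl fun i _ => ?_
      rw [← pow_mul, ← pow_add, ← pow_mul, ← pow_add, hκδ i, mul_comm m]
    have h2 : mk L hL ^ ν * dcl C hC = a := by
      rw [hCd, inv_div, mul_div_cancel]
    rw [hL₁c, hg, ← h2]
    simp only [map_mul, map_pow]
    rw [hεP, hεC]
    exact aux2 h1
  -- surjectivity upstairs
  obtain ⟨r', σ, hσ, hσpos, hσprod⟩ := exists_pos E δ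
  have hup : ∀ t : ℕ, Surj (LogNCD.inclTwist (CohB1.tensorMod ((Scheme.Modules.pullback π).obj Linv) T)
      (F₀.comap π ^ t)) b := by
    intro t
    have hNcd : LogNCD.IsNCD (Fin.snoc (α := fun _ => X₁.IdealSheafData) (fun j => E (σ j)) (F₀.comap π))
        (X₁ ↘ Spec (CommRingCat.of k)) := by
      let τ : Fin (r' + 1) → Fin (s + 1) := Fin.snoc (α := fun _ => Fin (s + 1)) (fun j => (σ j).castSucc) (Fin.last s)
      have hτ : Function.Injective τ := by
        intro i j
        refine Fin.lastCases ?_ (fun i => ?_) i <;> refine Fin.lastCases ?_ (fun j => ?_) j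
        · intro _; rfl
        · intro h
          simp only [τ, Fin.snoc_last, Fin.snoc_castSucc] at h
          exact absurd h.symm (Fin.castSucc_lt_last _).ne
        · intro h
          simp only [τ, Fin.snoc_last, Fin.snoc_castSucc] at h
          exact absurd h (Fin.castSucc_lt_last _).ne
        · intro h
          simp only [τ, Fin.snoc_castSucc, Fin.castSucc_inj] at h
          rw [hσ h]
      have h1 := K660.Kol.isNCD_comp ht₀ τ hτ
      have h2 : (fun j => (Fin.snoc (α := fun _ => X₁.IdealSheafData) E (F₀.comap π)) (τ j)) =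
          Fin.snoc (α := fun _ => X₁.IdealSheafData) (fun j => E (σ j)) (F₀.comap π) := by
        funext j
        refine Fin.lastCases ?_ (fun j => ?_) j
        · simp only [τ, Fin.snoc_last]
        · simp only [τ, Fin.snoc_castSucc]
      rw [← h2]
      exact h1
    have hprod : ∀ (x : Fin r' → ℕ) (y : ℕ),
        ∏ j, (Fin.snoc (α := fun _ => X₁.IdealSheafData) (fun j => E (σ j)) (F₀.comap π) : Fin (r' + 1) → _) j ^
          (Fin.snoc (α := fun _ => ℕ) x y : Fin (r' + 1) → ℕ) j = (∏ j, E (σ j) ^ x j) * F₀.comap π ^ y := by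
      intro x y
      rw [Fin.prod_univ_castSucc]
      simp only [Fin.snoc_castSucc, Fin.snoc_last]
    have key := hEV X₁ n (hdim.trans hn) A₁ hA₁ _ _ hL₁ hL₁inv (q₀ * M) (Nat.mul_pos hq₀ (by omega)) (r' + 1)
      _ hNcd (Fin.snoc (α := fun _ => ℕ) (fun j => q₀ * δ (σ j)) 1) ?_ ?_ (Fin.snoc (α := fun _ => ℕ) (fun _ => 0) t) b
    · have h5 : (∏ j, E (σ j) ^ (0 : ℕ)) * F₀.comap π ^ t = F₀.comap π ^ t := by
        simp only [pow_zero, Finset.prod_const_one, one_mul]
      rw [hprod, h5] at key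
      exact key
    · intro j
      refine Fin.lastCases ?_ (fun j => ?_) j
      · rw [Fin.snoc_last]
        exact ⟨Nat.one_pos, by nlinarith⟩
      · rw [Fin.snoc_castSucc]
        exact ⟨Nat.mul_pos hq₀ (hσpos j), Nat.mul_lt_mul_of_pos_left (hδ _) hq₀⟩
    · rw [hprod, pow_one]
      have h1 : ∏ j, E (σ j) ^ (q₀ * δ (σ j)) = (∏ i, E i ^ δ i) ^ q₀ := by
        rw [← hσprod, ← Finset.prod_pow]
        exact Finset.prod_congr rfl fun j _ => by rw [← pow_mul, mul_comm]
      rw [h1]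
      have h2 := K660.KolUp.isEff_pow (hprodE δ) q₀
      have h3 := isEff_mul h2 hF₁e
      rw [isInverseOf_iff (isInvertible_tensorPow hL₁ _) (Dix.IdealModCartier.isInvertible_idealMod h3)]
      have h4 : mk (ClSub.idealMod ((∏ i, E i ^ δ i) ^ q₀ * F₀.comap π))
        (Dix.IdealModCartier.isInvertible_idealMod h3) = dcl _ h3 := rfl
      rw [h4, dcl_mul h2 hF₁e, K660.KolUp.dcl_pow (hprodE δ) q₀ h2, mk_tensorPow hL₁, ← mul_assoc, mul_comm q₀ M,
        pow_mul, ← mul_pow, hε, hL₁M, hF₁d, mul_inv_cancel]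
  -- surjectivity downstairs
  have hdown : ∀ t : ℕ, Surj (LogNCD.inclTwist Linv (F₀ ^ t)) b := by
    intro t
    have hFt := K660.KolUp.isEff_pow hF₀e t
    have hcm' : (F₀ ^ t).comap π = F₀.comap π ^ t := Groth.Agent.Divis.IdealComap.comap_pow _ _ _
    have hFt₁ : BlowUp.IsEffCartierIdeal ((F₀ ^ t).comap π) := hcm' ▸ K660.KolUp.isEff_pow hF₁e t
    refine hTw X X₁ (X ↘ Spec (CommRingCat.of k)) π hdim ⟨A, hA⟩ ⟨A₁, hA₁⟩ r D hD s E hE hEint e he' κ hκ T hT hTI
      _ _ (LogNCD.inclTwist Linv (F₀ ^ t)) b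
      (isInvertible_tensorMod hLi (Dix.IdealModCartier.isInvertible_idealMod hFt)) hLi ?_
    refine surj_tw_pullback π hLi hFt hFt₁ T ?_
    rw [hcm']
    exact hup t
  -- conclusion
  obtain ⟨Bi, hBi, hBim⟩ := exists_mk (mk B hB)⁻¹
  have hBP : ClSub.IsInverseOf B Bi := by rw [isInverseOf_iff hB hBi, ← hBim, mul_inv_cancel]
  obtain ⟨m₁, hm₁⟩ := K660.Van.esz_inv (X ↘ Spec (CommRingCat.of k)) hn hBP hBA hLi (b := b) hb
  have hFt := K660.KolUp.isEff_pow hF₀e m₁
  have hFtI := Dix.IdealModCartier.isInvertible_idealMod hFt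
  have h0 : Subsingleton (Coh.HH X (CohB1.tensorMod Linv (ClSub.idealMod (F₀ ^ m₁))) b) := by
    have h1 : mk (CohB1.tensorMod Linv (ClSub.idealMod (F₀ ^ m₁))) (isInvertible_tensorMod hLi hFtI) =
        mk (CohB1.tensorMod Linv (CohB1.tensorPow Bi m₁))
          (isInvertible_tensorMod hLi (isInvertible_tensorPow hBi m₁)) := by
      rw [← mk_mul_mk hLi hFtI, ← mk_mul_mk hLi (isInvertible_tensorPow hBi m₁), mk_tensorPow hBi, ← hBim, ← hBg]
      congr 1
      have h2 : mk (ClSub.idealMod (F₀ ^ m₁)) hFtI = dcl _ hFt := rfl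
      rw [h2, K660.KolUp.dcl_pow hF₀e m₁ hFt, hF₀d]
    obtain ⟨i⟩ := (mk_eq_iff _ _).1 h1
    exact HShift.subsingleton_of_iso i.symm b (hm₁ m₁ le_rfl b le_rfl)
  exact ⟨fun x y => by
    obtain ⟨x', rfl⟩ := hdown m₁ x
    obtain ⟨y', rfl⟩ := hdown m₁ y
    rw [Subsingleton.elim x' y']⟩

end K661.BigD
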