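import Groth.Agent.Vanish.K661.Rows
import Groth.Agent.Vanish.K661.BigD
import Groth.Agent.Vanish.K661.TwDescMain

/-!
# The vanishing theorems modulo `Alt` and `EV`

`bigCase`: `L^N(-D)` nef, `L` big, `0 < α_j < N` ⇒ `H^b(X, L⁻¹) = 0` for `b < n`; S16902, S16906, S17117, S17118.
-/

set_option autoImplicit false
universe u

open CategoryTheory CategoryTheory.Limits AlgebraicGeometry

namespace K661.Final

open K660.KolUp K909.AltInterface K661.Ind

variable {k : Type u} [Field k] [IsAlgClosed k] [CharZero k]

/-- The big case of the vanishing theorem for `L` with `L^N(-D)` nef. -/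
theorem bigCase (hAlt : Alt k) (hEV : EV k) : BigCase k fun _ => True :=
  K661.BigD.bigCase hAlt (K661.TwDescMain.twDesc k) hEV

end K661.Final
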