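import Groth.Agent.Vanish.K661.HypPlane
import Groth.Agent.Vanish.K660.Van
import Groth.Agent.Variety.K424.NakMain

/-!
# Growth of sections and hyperplane sections; nef classes
-/

set_option autoImplicit false
universe u

open CategoryTheory CategoryTheory.Limits AlgebraicGeometry Opposite TopologicalSpace

namespace K661.Grow

open Groth.Agent Groth.Agent.Fga Groth.Agent.Fga.PicMon Groth.Agent.Grpsch.PicGrp Groth.Agent.Fga.JacFactor
  Groth.Agent.Divis.EffCartier Groth.Agent.Fdesc.LocGen K660.KolUp K910.HZ K931.Eff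
open K909.Kleiman (Nef NefC)

theorem le_of_growth {κ n C : ℕ} (h : ∀ μ : ℕ, 1 ≤ μ → μ ^ κ ≤ C * μ ^ n) : κ ≤ n := by
  by_contra hlt
  push Not at hlt
  have h1 := h (C + 1) (by omega)
  have h2 : (C + 1) ^ (n + 1) ≤ (C + 1) ^ κ := Nat.pow_le_pow_right (by omega) hlt
  have h3 : 0 < (C + 1) ^ n := by positivity
  rw [pow_succ] at h2
  nlinarith

section field

variable {k : Type u} [Field k] {X : Scheme.{u}} [X.Over (Spec (CommRingCat.of k))]

section proper

variable [IsProper (X ↘ Spec (CommRingCat.of k))]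

/-- The growth exponent is bounded by the dimension of the support. -/
theorem kappa_le (d : ℕ) (hd : topologicalKrullDim X ≤ d) {H : X.Modules} (hH : CohB1.IsAmple H)
    {P : X.Modules} (hP : PicF.IsInvertible P) {F : X.Modules} (hF : Coh.IsCoh F) (r : ℕ)
    (hr : topologicalKrullDim (CohB1.support F) ≤ r) {κ ν a : ℕ}
    (h : ∀ μ : ℕ, 1 ≤ μ → μ ^ κ ≤ a * HZ k X (mc P ^ (ν * μ) * mc F)) : κ ≤ r := by
  obtain ⟨C, hC⟩ := K910.Growth.upper k d hd hH hP hF r hr
  refine le_of_growth (C := a * (C * (ν + 1) ^ r)) fun μ hμ => ?_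
  refine (h μ hμ).trans ?_
  rw [mul_assoc, mul_assoc, ← mul_pow]
  refine Nat.mul_le_mul_left _ ((hC (ν * μ)).trans (Nat.mul_le_mul_left _ (Nat.pow_le_pow_left ?_ r)))
  nlinarith

theorem HZ_eq_zero {c : Pic X} (h : ¬ Eff c) {M : X.Modules} (hM : PicF.IsInvertible M) (hc : mk M hM = c) :
    HZ k X (mc M) = 0 := by
  rw [HZ_mc]
  by_contra h0
  apply h
  rw [← hc, eff_mk hM, ← K931.Basic.nontrivial_H0_iff]
  by_contra hc'
  rw [not_nontrivial_iff_subsingleton] at hc'
  exact h0 Module.finrank_zero_of_subsingleton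

/-- If no `P^q(-E)` has sections, the sections of `P^q` inject into those of `P^q|_E`. -/
theorem HZ_le_quot {P : X.Modules} (hP : PicF.IsInvertible P) {E : X.IdealSheafData}
    (hE : BlowUp.IsEffCartierIdeal E) (q : ℕ) (h : ¬ Eff (mk P hP ^ q * dcl E hE)) :
    HZ k X (mc P ^ q) ≤ HZ k X (mc P ^ q * mc (ClSub.quotMod E)) := by
  have := IntAdd.isNoetherian k X
  have hS := K800.Restr.S₀_shortExact E
  have h1 := (HZ_le_of_shortExact k _ hS (VarietyB.DegCartier.isCoh_idealMod E) (CurvesC.UnitCoh.isCoh_unit X)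
    (VarietyB.DegCartier.isCoh_quotMod E) ((inv_mc hP).pow q)).2
  have h2 : HZ k X (mc P ^ q * mc (ClSub.idealMod E)) = 0 := by
    have hI := Dix.IdealModCartier.isInvertible_idealMod hE
    have hPq := isInvertible_tensorPow hP q
    rw [← mc_tensorPow, ← mc_tensor]
    refine HZ_eq_zero h (isInvertible_tensorMod hPq hI) ?_
    rw [← mk_mul_mk hPq hI, mk_tensorPow hP]
    rfl
  change HZ k X (mc P ^ q * mc (Coh.structureModule X)) ≤ HZ k X (mc P ^ q * mc (ClSub.idealMod E)) +
    HZ k X (mc P ^ q * mc (ClSub.quotMod E)) at h1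
  rw [h2, zero_add, mc_one, mul_one] at h1
  exact h1

end proper

/-- Sections of `P^q|_E`. -/
theorem HZ_quot {P : X.Modules} (hP : PicF.IsInvertible P) (E : X.IdealSheafData) (q : ℕ) :
    HZ k X (mc P ^ q * mc (ClSub.quotMod E)) =
      @HZ k _ E.subscheme ⟨E.subschemeι ≫ (X ↘ Spec (CommRingCat.of k))⟩
        (mc ((Scheme.Modules.pullback E.subschemeι).obj P) ^ q) := by
  let _ : E.subscheme.Over (Spec (CommRingCat.of k)) := ⟨E.subschemeι ≫ (X ↘ Spec (CommRingCat.of k))⟩
  have hPq := isInvertible_tensorPow hP q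
  have hPE := isInvertible_pullback E.subschemeι hP
  rw [← mc_tensorPow, ← mc_tensor, ← mc_tensorPow, HZ_mc, HZ_mc]
  let e := VarietyB.ProjForm.projIsoUnit E.subschemeι (K427.EulerClosed.hasBases_of_isInvertible hPq)
  rw [CurvesC.DegIso.finrank_congr k e, CurvesC.DegIso.finrank_push k E.subschemeι rfl]
  have h1 : mk _ (isInvertible_pullback E.subschemeι hPq) = mk _ (isInvertible_tensorPow hPE q) := by
    rw [← pull_mk E.subschemeι hPq, mk_tensorPow hP, mk_tensorPow hPE, map_pow, pull_mk]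
  obtain ⟨i⟩ := (mk_eq_iff _ _).1 h1
  exact CurvesC.DegIso.finrank_congr k i 0

end field

section nef

variable {k : Type u} [Field k] {X : Scheme.{u}} [X.Over (Spec (CommRingCat.of k))]
  [IsProper (X ↘ Spec (CommRingCat.of k))]

/-- Nef classes restrict to closed subschemes. -/
theorem NefC.pull {c : Pic X} (hc : NefC k X c) {Z : Scheme.{u}} (i : Z ⟶ X) [IsClosedImmersion i]
    [Z.Over (Spec (CommRingCat.of k))] [IsProper (Z ↘ Spec (CommRingCat.of k))]
    (hi : i ≫ (X ↘ Spec (CommRingCat.of k)) = Z ↘ Spec (CommRingCat.of k)) : NefC k Z (pull i c) := by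
  obtain ⟨L, hL, rfl⟩ := exists_mk c
  rw [← K909.Kleiman.nef_iff_nefC k X hL] at hc
  rw [pull_mk i hL, ← K909.Kleiman.nef_iff_nefC]
  exact K909.Kleiman.Nef.pullback k X hc i hi

/-- Nef times ample is ample. -/
theorem amp_of_nefC (d : ℕ) (hd : topologicalKrullDim X ≤ d) {c a : Pic X} (hc : NefC k X c) (ha : Amp a) (p : ℕ) :
    Amp (c ^ p * a) := by
  obtain ⟨L, hL, rfl⟩ := exists_mk c
  obtain ⟨A, hA, rfl, hAa⟩ := ha
  rw [← K909.Kleiman.nef_iff_nefC k X hL] at hc
  rw [← mk_tensorPow hL, mk_mul_mk, amp_mk]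
  exact K909.Kleiman.isAmple_tensorPow_tensor k (K424.NakMain.nak k) X d hd L A hc hL hAa p

end nef

end K661.Grow
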