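import Groth.Agent.Vanish.K661.NcdRes
import Groth.Agent.Vanish.K660.Kol
import Groth.Agent.Vanish.K909.BigCrit
import Groth.Agent.Vanish.K910.Kodaira
import Groth.Agent.Variety.K427.EulerClosed
import Groth.Agent.AdjLin.K800.Restr
import Groth.Agent.Pi1C.LefFinal
import Groth.Agent.CurvesC.GenusOne512
import Groth.Agent.CurvesC.DegIso
import Groth.Agent.Models.H58.CurveBC
import Groth.Agent.Fga.HShift

/-!
# Hyperplane sections of projective manifolds in general position
-/

set_option autoImplicit false
universe u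

open CategoryTheory CategoryTheory.Limits AlgebraicGeometry Opposite TopologicalSpace

namespace K661.HypPlane

open Groth.Agent Groth.Agent.Grpsch.PicGrp Groth.Agent.Fga.JacFactor Groth.Agent.Fga.ZeroClass
  Groth.Agent.Divis.EffCartier Groth.Agent.Fdesc.LocGen K660.KolUp

/-- The statement of S16888 (Kodaira's vanishing theorem). -/
def Kod (k : Type u) [Field k] : Prop :=
  ∀ (X : Scheme.{u}) [X.Over (Spec (CommRingCat.of k))] [IsProper (X ↘ Spec (CommRingCat.of k))]
    [Smooth (X ↘ Spec (CommRingCat.of k))] [IrreducibleSpace X] (n : ℕ) (_ : topologicalKrullDim X = n)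
    (L Linv : X.Modules) (_ : CohB1.IsAmple L) (_ : ClSub.IsInverseOf Linv L)
    (b : ℕ) (_ : b < n), Subsingleton (Coh.HH X Linv b)

section gen

variable {X : Scheme.{u}}

/-- The cohomology of `M` injects into that of the restriction to `E` if that of `M(-E)` vanishes. -/
theorem subsingleton_of_restrict (k : Type u) [Field k] [X.Over (Spec (CommRingCat.of k))]
    (E : X.IdealSheafData) {M : X.Modules} (hM : PicF.IsInvertible M) (b : ℕ)
    (h1 : Subsingleton (Coh.HH X (CohB1.tensorMod M (ClSub.idealMod E)) b))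
    (h2 : Subsingleton (Coh.HH E.subscheme ((Scheme.Modules.pullback E.subschemeι).obj M) b)) :
    Subsingleton (Coh.HH X M b) := by
  let _ : E.subscheme.Over (Spec (CommRingCat.of k)) := ⟨E.subschemeι ≫ (X ↘ Spec (CommRingCat.of k))⟩
  have hS := K800.Restr.shortExact_tens (Ega3B.SectExact.isFlat_of_isInvertible hM) (K800.Restr.S₀_shortExact E)
  refine Fga.HShift.subsingleton_of_iso (Ega2.Tens.runit M) b ?_
  refine Fga.HShift.subsingleton₂ hS b h1 ?_
  let e := VarietyB.ProjForm.projIsoUnit E.subschemeι (K427.EulerClosed.hasBases_of_isInvertible hM)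
  refine Fga.HShift.subsingleton_of_iso e.symm b ?_
  exact (CurvesC.CurveNum.hhPushₗ k E.subschemeι rfl _ b).symm.toEquiv.subsingleton

end gen

section geo

theorem dim_subscheme {X : Scheme.{u}} (E : X.IdealSheafData) :
    topologicalKrullDim E.subscheme = topologicalKrullDim (E.support : Set X) := by
  have h : (E.support : Set X) = Set.range E.subschemeι := E.range_subschemeι.symm
  rw [h]
  exact IsHomeomorph.topologicalKrullDim_eq _ E.subschemeι.isClosedEmbedding.isEmbedding.toHomeomorph.isHomeomorph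

/-- The dimension of the zero scheme of a nonzero section of an ample module. -/
theorem dim_zeroScheme {k : Type u} [Field k] {X : Scheme.{u}} (f : X ⟶ Spec (CommRingCat.of k)) [IsProper f]
    [IsIntegral X] {m : ℕ} (hn : topologicalKrullDim X = ((m + 1 : ℕ) : WithBot ℕ∞))
    {B : X.Modules} (hB : CohB1.IsAmple B) (s : Coh.structureModule X ⟶ B)
    (hs : genericPoint X ∈ CohB1.genLocus B s) :
    topologicalKrullDim (PicF2.zeroScheme B s).subscheme = m := by
  let _ : X.Over (Spec (CommRingCat.of k)) := ⟨f⟩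
  have : IsProper (X ↘ Spec (CommRingCat.of k)) := inferInstanceAs (IsProper f)
  rw [dim_subscheme, Pi1C.LefFinal.support_eq hB.1 s]
  have h1 : ((CohB1.genLocus B s : Set X)ᶜ : Set X) = (Set.univ : Set X) \ (CohB1.genLocus B s) := by
    rw [Set.compl_eq_univ_sdiff]
  rw [h1]
  refine Fga.DimCut.dim_cut (k := k) X Set.univ isClosed_univ m ?_ (CohB1.genLocus B s)
    (Pi1C.LefFinal.isAffineOpen_genLocus (X ↘ Spec (CommRingCat.of k)) hB s) ?_ ?_
  · rw [← hn]
    exact (Homeomorph.Set.univ X).isHomeomorph.topologicalKrullDim_eq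
  · intro x hx
    obtain ⟨U, hxU, e, a, -, -, h, -⟩ := Fga.RegSec.exists_gen_of_not_mem s hB.1 hx
    exact ⟨U, hxU, a, h⟩
  · intro Z hZ
    have hirr : IrreducibleSpace (Set.univ : Set X) :=
      (Homeomorph.Set.univ X).symm.surjective.irreducibleSpace (Homeomorph.Set.univ X).symm.continuous
    have hZ' : Z = Set.univ := by
      rw [irreducibleComponents_eq_singleton] at hZ
      exact hZ
    exact ⟨⟨genericPoint X, trivial⟩, by rw [hZ']; trivial, hs⟩

variable {k : Type u} [Field k] {X : Scheme.{u}} [X.Over (Spec (CommRingCat.of k))]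
  [IsProper (X ↘ Spec (CommRingCat.of k))]

/-- A divisor `E` which is smooth, nonempty and with `H^1(O(-E)) = 0` on a proper integral scheme is integral. -/
theorem isIntegral_subscheme [IsIntegral X] (E : X.IdealSheafData)
    (hsm : Smooth (E.subschemeι ≫ (X ↘ Spec (CommRingCat.of k)))) (hne : Nonempty E.subscheme)
    (h1 : Subsingleton (Coh.HH X (ClSub.idealMod E) 1)) : IsIntegral E.subscheme := by
  have hf : IsField Γ(X, ⊤) := isField_of_universallyClosed k (X ↘ Spec (CommRingCat.of k))
  have hsurj : Function.Surjective (E.subschemeι.app ⊤).hom := by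
    intro t
    obtain ⟨s, hs⟩ := Ega3B.SectExact.surjective_of_H1 (K800.Restr.S₀_shortExact E) h1
      (show Γ(ClSub.quotMod E, ⊤) from t)
    exact ⟨s, hs⟩
  have hne' : Nonempty (⊤ : E.subscheme.Opens) := ⟨⟨hne.some, trivial⟩⟩
  have hnt : Nontrivial Γ(E.subscheme, ⊤) := inferInstance
  refine Models.H58.CurveBC.isIntegral_of_smooth (E.subschemeι ≫ (X ↘ Spec (CommRingCat.of k))) ?_
  let _ : Field Γ(X, ⊤) := hf.toField
  have hnt' : Nontrivial Γ(E.subscheme, E.subschemeι ⁻¹ᵁ ⊤) := hnt
  have hinj : Function.Injective (E.subschemeι.app ⊤).hom := RingHom.injective _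
  let e : Γ(X, ⊤) ≃+* Γ(E.subscheme, ⊤) := RingEquiv.ofBijective _ ⟨hinj, hsurj⟩
  exact e.symm.toMulEquiv.isDomain Γ(X, ⊤)

end geo

section member

variable {k : Type u} [Field k] [IsAlgClosed k] [CharZero k] {X : Scheme.{u}} [X.Over (Spec (CommRingCat.of k))]
  [IsProper (X ↘ Spec (CommRingCat.of k))] [Smooth (X ↘ Spec (CommRingCat.of k))]

/-- Bertini: a member of a globally generated system crossing a normal crossing divisor normally. -/
theorem exists_member {r : ℕ} (D : Fin r → X.IdealSheafData) (hD : LogNCD.IsNCD D (X ↘ Spec (CommRingCat.of k)))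
    {B : X.Modules} (hB : PicF.IsInvertible B) (hgg : Curv2.IsGloballyGenerated B) :
    ∃ s : Coh.structureModule X ⟶ B,
      LogNCD.IsNCD (Fin.snoc (α := fun _ => X.IdealSheafData) D (PicF2.zeroScheme B s))
        (X ↘ Spec (CommRingCat.of k)) := by
  have : CompactSpace X := K931.Basic.compactSpace k X
  obtain ⟨r₁, s, hs⟩ := exists_sections hB hgg
  obtain ⟨p, hp, hpc⟩ := K27.Bert0.exists_poly_isNCD (k := k) (X := X) (D := D) hD hB s hs
  have : Infinite k := IsAlgClosed.instInfinite
  obtain ⟨a, ha⟩ := exists_eval_ne_zero p hp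
  exact ⟨_, hpc a ha⟩

end member

end K661.HypPlane
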