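import Groth.Agent.Vanish.K661.Grow

/-!
# Vanishing in terms of the growth of sections: induction on hyperplane sections
-/

set_option autoImplicit false
universe u

open CategoryTheory CategoryTheory.Limits AlgebraicGeometry Opposite TopologicalSpace

namespace K661.Ind

open Groth.Agent Groth.Agent.Fga Groth.Agent.Fga.PicMon Groth.Agent.Grpsch.PicGrp Groth.Agent.Fga.JacFactor
  Groth.Agent.Divis.EffCartier Groth.Agent.Fdesc.LocGen K660.KolUp K910.HZ K931.Eff K661.Grow K661.HypPlane
open K909.Kleiman (Nef NefC)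

/-- The vanishing theorem for big modules `L` with `L^N(-Σ α_j D_j)` nef, `0 < α_j < N`, for families of `r` components
with `R r`. -/
def BigCase (k : Type u) [Field k] (R : ℕ → Prop) : Prop :=
  ∀ (X : Scheme.{u}) [X.Over (Spec (CommRingCat.of k))] [IsProper (X ↘ Spec (CommRingCat.of k))]
    [Smooth (X ↘ Spec (CommRingCat.of k))] [IsIntegral X] (n : ℕ) (_ : topologicalKrullDim X = n)
    (A : X.Modules) (_ : CohB1.IsAmple A) (L Linv : X.Modules) (hL : PicF.IsInvertible L)
    (_ : ClSub.IsInverseOf Linv L) (N : ℕ) (_ : 1 ≤ N) (r : ℕ) (_ : R r) (D : Fin r → X.IdealSheafData)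
    (_ : LogNCD.IsNCD D (X ↘ Spec (CommRingCat.of k))) (α : Fin r → ℕ) (_ : ∀ j, 0 < α j ∧ α j < N)
    (hP : BlowUp.IsEffCartierIdeal (∏ j, D j ^ α j)) (_ : NefC k X (mk L hL ^ N * dcl _ hP))
    (ν : ℕ) (_ : 0 < ν) (a : Pic X) (_ : Amp a) (_ : Eff (mk L hL ^ ν / a)) (b : ℕ) (_ : b < n),
    Subsingleton (Coh.HH X Linv b)

theorem isEff_prod {X : Scheme.{u}} {ι : Type*} (s : Finset ι) (D : ι → X.IdealSheafData)
    (h : ∀ i ∈ s, BlowUp.IsEffCartierIdeal (D i)) : BlowUp.IsEffCartierIdeal (∏ i ∈ s, D i) := by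
  classical
  induction s using Finset.induction_on with
  | empty => rw [Finset.prod_empty]; exact isEff_top
  | insert i s hi ih =>
    rw [Finset.prod_insert hi]
    exact isEff_mul (h i (Finset.mem_insert_self _ _)) (ih fun j hj => h j (Finset.mem_insert_of_mem hj))

theorem isEff_prod_pow {X S : Scheme.{u}} {f : X ⟶ S} {r : ℕ} {D : Fin r → X.IdealSheafData}
    (hD : LogNCD.IsNCD D f) [Smooth f] (α : Fin r → ℕ) : BlowUp.IsEffCartierIdeal (∏ j, D j ^ α j) :=
  isEff_prod _ _ fun j _ => K660.KolUp.isEff_pow (K911.Ncd.isEff_of_isNCD hD j) (α j)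

theorem comap_prod {X Y : Scheme.{u}} {ι : Type*} (s : Finset ι) (I : ι → Y.IdealSheafData) (f : X ⟶ Y) :
    (∏ i ∈ s, I i).comap f = ∏ i ∈ s, (I i).comap f := by
  classical
  induction s using Finset.induction_on with
  | empty =>
    rw [Finset.prod_empty, Finset.prod_empty]
    have h := Groth.Agent.Divis.IdealComap.comap_pow (⊤ : Y.IdealSheafData) f 0
    rwa [pow_zero, pow_zero] at h
  | insert a s ha ih =>
    rw [Finset.prod_insert ha, Finset.prod_insert ha, Groth.Agent.Divis.IdealComap.comap_mul, ih]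

/-- The support of an effective divisor on an integral scheme has smaller dimension. -/
theorem dim_support_le {X : Scheme.{u}} [IsIntegral X] {m : ℕ}
    (hn : topologicalKrullDim X ≤ ((m + 1 : ℕ) : WithBot ℕ∞)) {E : X.IdealSheafData}
    (hE : BlowUp.IsEffCartierIdeal E) : topologicalKrullDim (CohB1.support (ClSub.quotMod E)) ≤ m := by
  refine (DimLt.topologicalKrullDim_mono (VarietyB.DegCartier.support_quotMod_subset E)).trans ?_
  have hne : (E.support : Set X) ≠ Set.univ := fun h => K660.Ram.genericPoint_notMem_support hE (by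
    have : genericPoint X ∈ (E.support : Set X) := by rw [h]; trivial
    exact this)
  have hlt := DimLt.topologicalKrullDim_lt (A := Set.univ) (irreducibleSpace_def X |>.mp inferInstance)
    E.support.isClosed (Set.subset_univ _) hne (d := m + 1) (by
      refine lt_of_le_of_lt ((Topology.IsInducing.subtypeVal.topologicalKrullDim_le).trans hn) ?_
      exact_mod_cast Nat.lt_succ_self _)
  have hlt2 : topologicalKrullDim (E.support : Set X) < ((m + 1 : ℕ) : WithBot ℕ∞) := hlt
  rw [Nat.cast_add, Nat.cast_one, ENat.WithBot.lt_add_one_iff] at hlt2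
  exact hlt2

variable {k : Type u} [Field k] [IsAlgClosed k] [CharZero k]

/-- **The induction.** -/
theorem ind (R : ℕ → Prop) (hBig : BigCase k R) (n : ℕ) :
    ∀ (X : Scheme.{u}) [X.Over (Spec (CommRingCat.of k))] [IsProper (X ↘ Spec (CommRingCat.of k))]
      [Smooth (X ↘ Spec (CommRingCat.of k))] [IsIntegral X] (_ : topologicalKrullDim X = n)
      (A : X.Modules) (_ : CohB1.IsAmple A) (L Linv : X.Modules) (hL : PicF.IsInvertible L)
      (_ : ClSub.IsInverseOf Linv L) (N : ℕ) (_ : 1 ≤ N) (r : ℕ) (_ : R r) (D : Fin r → X.IdealSheafData)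
      (_ : LogNCD.IsNCD D (X ↘ Spec (CommRingCat.of k))) (α : Fin r → ℕ) (_ : ∀ j, 0 < α j ∧ α j < N)
      (hP : BlowUp.IsEffCartierIdeal (∏ j, D j ^ α j)) (_ : NefC k X (mk L hL ^ N * dcl _ hP))
      (P : X.Modules) (hPi : PicF.IsInvertible P) (q : Pic X) (_ : NefC k X q) (_ : mk L hL = mk P hPi * q)
      (κ ν a : ℕ) (_ : 0 < ν) (_ : ∀ μ : ℕ, 1 ≤ μ → μ ^ κ ≤ a * HZ k X (mc P ^ (ν * μ)))
      (b : ℕ) (_ : b < κ), Subsingleton (Coh.HH X Linv b) := by
  induction n with
  | zero =>
    intro X _ _ _ _ hn A hA L Linv hL hLinv N hN r hr D hD α hα hP hnef P hPi q hq hPq κ ν a hν hκ b hb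
    exfalso
    have := IntAdd.isNoetherian k X
    have h1 : κ ≤ 0 := kappa_le (k := k) 0 hn.le hA hPi (CurvesC.UnitCoh.isCoh_unit X) 0
      ((Topology.IsInducing.subtypeVal.topologicalKrullDim_le).trans hn.le) (ν := ν) (a := a) (fun μ hμ => by
        rw [mc_one, mul_one]
        exact hκ μ hμ)
    omega
  | succ m ih =>
    intro X _ _ _ _ hn A hA L Linv hL hLinv N hN r hr D hD α hα hP hnef P hPi q hq hPq κ ν a hν hκ b hb
    have := IntAdd.isNoetherian k X
    have hsep := K931.Basic.isSeparated k X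
    have hcomp := K931.Basic.compactSpace k X
    have hκn : κ ≤ m + 1 := kappa_le (k := k) (m + 1) hn.le hA hPi (CurvesC.UnitCoh.isCoh_unit X) (m + 1)
      ((Topology.IsInducing.subtypeVal.topologicalKrullDim_le).trans hn.le) (ν := ν) (a := a) (fun μ hμ => by
        rw [mc_one, mul_one]
        exact hκ μ hμ)
    by_cases hbig : ∃ (j : ℕ) (c : Pic X), 0 < j ∧ Amp c ∧ Eff (mk P hPi ^ j / c)
    · obtain ⟨j, c, hj, hc, he⟩ := hbig
      refine hBig X (m + 1) hn A hA L Linv hL hLinv N hN r hr D hD α hα hP hnef j hj (q ^ j * c)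
        (amp_of_nefC (m + 1) hn.le hq hc j) ?_ b (by omega)
      have : mk L hL ^ j / (q ^ j * c) = mk P hPi ^ j / c := by
        rw [hPq, mul_pow, div_eq_mul_inv, div_eq_mul_inv, mul_inv, mul_assoc, mul_inv_cancel_left]
      rw [this]
      exact he
    · push Not at hbig
      have hAa : Amp (mk A hA.1) := (amp_mk hA.1).2 hA
      have hno : ∀ {E : X.IdealSheafData} (hE : BlowUp.IsEffCartierIdeal E) {t : ℕ} (_ : 0 < t)
          (_ : dcl E hE = (mk A hA.1 ^ t)⁻¹) (j : ℕ) (_ : 0 < j), ¬ Eff (mk P hPi ^ j * dcl E hE) := by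
        intro E hE t ht he j hj
        rw [he, ← div_eq_mul_inv]
        exact hbig j _ hj (hAa.pow ht)
      -- the growth exponent is at most `m`
      have hκm : κ ≤ m := by
        obtain ⟨t, ht, h⟩ := hAa.eventually_eff 1
        obtain ⟨E, hE, hEd⟩ := K660.Semi.Eff.exists_div (h t le_rfl)
        rw [mul_one] at hEd
        refine kappa_le (k := k) (m + 1) hn.le hA hPi (VarietyB.DegCartier.isCoh_quotMod E) m
          (dim_support_le hn.le hE) (ν := ν) (a := a) fun μ hμ => ?_
        refine (hκ μ hμ).trans (Nat.mul_le_mul_left _ ?_)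
        exact HZ_le_quot hPi hE (ν * μ) (hno hE ht hEd _ (Nat.mul_pos hν hμ))
      have hm1 : 1 ≤ m := by omega
      -- the inverse of `A`
      obtain ⟨Ai, hAi, hAim⟩ := exists_mk (mk A hA.1)⁻¹
      have hAP : ClSub.IsInverseOf A Ai := by rw [isInverseOf_iff hA.1 hAi, ← hAim, mul_inv_cancel]
      have hLi : PicF.IsInvertible Linv := (Dix.IdealModCartier.isInvertible_of_isInverseOf hLinv).1
      obtain ⟨m₁, hm₁⟩ := K660.Van.esz_inv (X ↘ Spec (CommRingCat.of k)) hn hAP hA hLi (b := b) (by omega)
      obtain ⟨m₂, hm₂⟩ := K660.Van.esz_inv (X ↘ Spec (CommRingCat.of k)) hn hAP hA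
        (F := Coh.structureModule X) isInvertible_structureModule (b := 1) (by omega)
      obtain ⟨m₃, hm₃, hgg⟩ := Groth.Agent.S2329.result X A (Coh.structureModule X) hA isInvertible_structureModule
      obtain ⟨t, ht₁, ht₂, ht₃⟩ : ∃ t, m₁ ≤ t ∧ m₂ ≤ t ∧ m₃ ≤ t :=
        ⟨max m₁ (max m₂ m₃), le_max_left _ _, (le_max_left _ _).trans (le_max_right _ _),
          (le_max_right _ _).trans (le_max_right _ _)⟩
      have ht : 0 < t := by omega
      have hB : CohB1.IsAmple (CohB1.tensorPow A t) := by
        rw [← amp_mk (isInvertible_tensorPow hA.1 t), mk_tensorPow hA.1]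
        exact hAa.pow ht
      have hBgg : Curv2.IsGloballyGenerated (CohB1.tensorPow A t) :=
        K660.Semi.gg_of_iso (Ega2.Tens.runit _) (hgg t ht₃).2
      obtain ⟨s, hs⟩ := exists_member D hD hB.1 hBgg
      set E : X.IdealSheafData := PicF2.zeroScheme (CohB1.tensorPow A t) s with hEdef
      have hEeff : BlowUp.IsEffCartierIdeal E := by
        have := K911.Ncd.isEff_of_isNCD hs (Fin.last r)
        simpa using this
      have hEd : dcl E hEeff = (mk A hA.1 ^ t)⁻¹ := by
        have := Groth.Agent.Fga.ZeroClass.mk_eq_inv_dcl hB.1 _ (K513.Theta1.isZeroIdeal_zeroScheme hB.1 s) hEeff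
        rw [← mk_tensorPow hA.1, this, inv_inv]
      have hgen : genericPoint X ∈ CohB1.genLocus _ s := by
        have h1 := K660.Ram.genericPoint_notMem_support hEeff
        rw [hEdef, Groth.Agent.Pi1C.ZeroScheme.mem_support_iff s hB.1, not_not] at h1
        exact h1
      have hdim : topologicalKrullDim E.subscheme = m := dim_zeroScheme (X ↘ Spec (CommRingCat.of k)) hn hB s hgen
      let _ : E.subscheme.Over (Spec (CommRingCat.of k)) := ⟨E.subschemeι ≫ (X ↘ Spec (CommRingCat.of k))⟩
      have hpE : IsProper (E.subscheme ↘ Spec (CommRingCat.of k)) :=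
        inferInstanceAs (IsProper (E.subschemeι ≫ (X ↘ Spec (CommRingCat.of k))))
      have hsE : Smooth (E.subscheme ↘ Spec (CommRingCat.of k)) := by
        have := K27.Strata.smooth_component (X ↘ Spec (CommRingCat.of k)) hs (Fin.last r)
        rw [Fin.snoc_last] at this
        exact this
      have hne : Nonempty E.subscheme := by
        by_contra hemp
        rw [not_nonempty_iff] at hemp
        have : topologicalKrullDim E.subscheme = ⊥ := by
          rw [topologicalKrullDim, Order.krullDim_eq_bot_iff]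
          exact ⟨fun Z => Z.2.nonempty.elim fun x _ => hemp.elim x⟩
        rw [this] at hdim
        exact absurd hdim (by simp)
      have hI := Dix.IdealModCartier.isInvertible_idealMod hEeff
      have hIm : mk (ClSub.idealMod E) hI = mk Ai hAi ^ t := by
        change dcl E hEeff = _
        rw [hEd, ← hAim, inv_pow]
      have hint : IsIntegral E.subscheme := by
        refine isIntegral_subscheme (k := k) E hsE hne ?_
        have h1 : mk (CohB1.tensorMod (Coh.structureModule X) (CohB1.tensorPow Ai t))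
            (isInvertible_tensorMod isInvertible_structureModule (isInvertible_tensorPow hAi t)) =
            mk (ClSub.idealMod E) hI := by
          rw [hIm, ← mk_mul_mk isInvertible_structureModule (isInvertible_tensorPow hAi t), mk_tensorPow hAi,
            ← one_def, one_mul]
        obtain ⟨i⟩ := (mk_eq_iff _ _).1 h1
        exact HShift.subsingleton_of_iso i 1 (hm₂ t ht₂ 1 le_rfl)
      -- restriction
      have hNE : LogNCD.IsNCD (fun i => (D i).comap E.subschemeι) (E.subscheme ↘ Spec (CommRingCat.of k)) :=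
        NcdRes.isNCD_restrict (X ↘ Spec (CommRingCat.of k)) D E hs
      have hPE := isEff_prod_pow hNE α
      have hcm : (∏ j, D j ^ α j).comap E.subschemeι = ∏ j, (D j).comap E.subschemeι ^ α j := by
        rw [comap_prod]
        exact Finset.prod_congr rfl fun j _ => Groth.Agent.Divis.IdealComap.comap_pow _ _ _
      have hLE := isInvertible_pullback E.subschemeι hL
      have hLiE := isInvertible_pullback E.subschemeι hLi
      have hPPE := isInvertible_pullback E.subschemeι hPi
      have key := ih E.subscheme hdim _ (CohqB.AmpCocycle.isAmple_pullback E.subschemeι hA) _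
        ((Scheme.Modules.pullback E.subschemeι).obj Linv) hLE ?_ N hN r hr _ hNE α hα hPE ?_
        _ hPPE (pull E.subschemeι q) (NefC.pull hq E.subschemeι rfl) ?_ κ ν a hν ?_ b hb
      · refine subsingleton_of_restrict k E hLi b ?_ key
        have h1 : mk (CohB1.tensorMod Linv (CohB1.tensorPow Ai t))
            (isInvertible_tensorMod hLi (isInvertible_tensorPow hAi t)) =
            mk (CohB1.tensorMod Linv (ClSub.idealMod E)) (isInvertible_tensorMod hLi hI) := by
          rw [← mk_mul_mk hLi hI, hIm, ← mk_mul_mk hLi (isInvertible_tensorPow hAi t), mk_tensorPow hAi]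
        obtain ⟨i⟩ := (mk_eq_iff _ _).1 h1
        exact HShift.subsingleton_of_iso i b (hm₁ t ht₁ b le_rfl)
      · rw [isInverseOf_iff hLiE hLE, ← pull_mk E.subschemeι hLi, ← pull_mk E.subschemeι hL, ← map_mul,
          (isInverseOf_iff hLi hL).1 hLinv, map_one]
      · have h2 : BlowUp.IsEffCartierIdeal ((∏ j, D j ^ α j).comap E.subschemeι) := hcm ▸ hPE
        have h3 : dcl (∏ j, (D j).comap E.subschemeι ^ α j) hPE = dcl _ h2 := by
          congr 1
          exact hcm.symm
        have h4 := NefC.pull hnef E.subschemeι (Z := E.subscheme) rfl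
        rw [map_mul, map_pow, pull_mk, pull_dcl E.subschemeι hP h2] at h4
        rw [h3]
        exact h4
      · rw [← pull_mk E.subschemeι hL, hPq, map_mul, pull_mk]
      · intro μ hμ
        refine (hκ μ hμ).trans (Nat.mul_le_mul_left _ ?_)
        have h1 := HZ_le_quot (k := k) hPi hEeff (ν * μ) (hno hEeff ht hEd _ (Nat.mul_pos hν hμ))
        rw [HZ_quot hPi E (ν * μ)] at h1
        exact h1

end K661.Ind
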