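import Groth.Agent.Vanish.K661.Ind
import Groth.Agent.Vanish.K909.NefTens

/-!
# The case of the empty divisor; the vanishing theorems in terms of the big case
-/

set_option autoImplicit false
universe u

open CategoryTheory CategoryTheory.Limits AlgebraicGeometry Opposite TopologicalSpace

namespace K661.Zero

open Groth.Agent Groth.Agent.Fga Groth.Agent.Fga.PicMon Groth.Agent.Grpsch.PicGrp Groth.Agent.Fga.JacFactor
  Groth.Agent.Divis.EffCartier Groth.Agent.Fdesc.LocGen K660.KolUp K910.HZ K931.Eff K661.Grow K661.HypPlane K661.Ind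
  K909.AltInterface
open K909.Kleiman (Nef NefC)

variable {k : Type u} [Field k]

/-- Roots of nef classes are nef. -/
theorem nefC_of_pow {X : Scheme.{u}} [X.Over (Spec (CommRingCat.of k))] [IsProper (X ↘ Spec (CommRingCat.of k))]
    {a : Pic X} {n : ℕ} (hn : 0 < n) (h : NefC k X (a ^ n)) : NefC k X a := by
  intro Y i _ hY hdim
  have h1 := h Y i hY hdim
  rw [K909.Kleiman.dOn_pow k X i hdim] at h1
  exact nonneg_of_mul_nonneg_right h1 (by exact_mod_cast hn)

theorem dcl_one {X : Scheme.{u}} {I : X.IdealSheafData} (hI : BlowUp.IsEffCartierIdeal I) (h : I = 1) :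
    dcl I hI = 1 := by
  subst h
  exact dcl_top

variable [IsAlgClosed k] [CharZero k]

/-- The big case for the empty divisor. -/
theorem bigCase_zero (hAlt : Alt k) (hDesc : Desc k) (hEV : EV k) : BigCase k (· = 0) := by
  intro X _ _ _ _ n hn A hA L Linv hL hLinv N hN r hr D hD α hα hP hnef ν hν a ha he b hb
  subst hr
  rw [dcl_one hP (Finset.prod_empty ..), mul_one] at hnef
  exact K660.Van.van hAlt hDesc hEV (X ↘ Spec (CommRingCat.of k)) n hn hL hLinv
    (fun c hc p => amp_of_nefC n hn.le (nefC_of_pow hN hnef) hc p) ν a ha he b hb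

/-- The vanishing theorem with growth of sections of `L ⊗ 𝒩⁻¹`, `𝒩` nef. -/
theorem fin (R : ℕ → Prop) (hBig : BigCase k R)
    (X : Scheme.{u}) [X.Over (Spec (CommRingCat.of k))] [IsProper (X ↘ Spec (CommRingCat.of k))]
    [Smooth (X ↘ Spec (CommRingCat.of k))] [IrreducibleSpace X] (n : ℕ) (hn : topologicalKrullDim X = n)
    (H : X.Modules) (hH : CohB1.IsAmple H) (L Linv : X.Modules) (hL : PicF.IsInvertible L)
    (hLinv : ClSub.IsInverseOf Linv L) (N : ℕ) (hN : 1 ≤ N) {r : ℕ} (hr : R r) (D : Fin r → X.IdealSheafData)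
    (hD : LogNCD.IsNCD D (X ↘ Spec (CommRingCat.of k))) (α : Fin r → ℕ) (hα : ∀ j, 0 < α j ∧ α j < N)
    (hP : BlowUp.IsEffCartierIdeal (∏ j, D j ^ α j)) (hnef : NefC k X (mk L hL ^ N * dcl _ hP))
    (Nn Nninv : X.Modules) (hNn : PicF.IsInvertible Nn) (hNninv : ClSub.IsInverseOf Nninv Nn)
    (hnefN : Nef k X Nn)
    (κ₀ : ℕ) (hκ : ∃ ν a : ℕ, 0 < ν ∧ 0 < a ∧ ∀ μ : ℕ, 1 ≤ μ →
        μ ^ κ₀ ≤ a * Module.finrank k (Coh.HH X (CohB1.tensorPow (CohB1.tensorMod L Nninv) (ν * μ)) 0))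
    (b : ℕ) (hb : b < κ₀) : Subsingleton (Coh.HH X Linv b) := by
  have : IsIntegral X := K802.GoodPoint.isIntegral_of_smooth (X ↘ Spec (CommRingCat.of k))
  obtain ⟨ν, a, hν, -, hκ⟩ := hκ
  have hNi : PicF.IsInvertible Nninv := (Dix.IdealModCartier.isInvertible_of_isInverseOf hNninv).1
  have hPi := isInvertible_tensorMod hL hNi
  refine ind R hBig n X hn H hH L Linv hL hLinv N hN r hr D hD α hα hP hnef (CohB1.tensorMod L Nninv) hPi
    (mk Nn hNn) ((K909.Kleiman.nef_iff_nefC k X hNn).1 hnefN) ?_ κ₀ ν a hν ?_ b hb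
  · rw [← mk_mul_mk hL hNi, mul_assoc, (isInverseOf_iff hNi hNn).1 hNninv, mul_one]
  · intro μ hμ
    have := hκ μ hμ
    rw [← HZ_mc, mc_tensorPow] at this
    exact this

end K661.Zero
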